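import Groth.Agent.GluePairHom.Obj

/-!
# An affine etale chart covering finitely many affine test objects
-/

set_option autoImplicit false
set_option backward.isDefEq.respectTransparency false
set_option backward.isDefEq.respectTransparency.types false

universe u

open CategoryTheory CategoryTheory.Limits AlgebraicGeometry TensorProduct AlgSp AlgSpLib

noncomputable section

namespace Groth.Agent.GluePairHom

variable {S : Scheme.{u}}

theorem isAffine_of_isPullback [IsAffine S] {Z : Sp S} (hd : IsAffineMor (Limits.diag Z)) {U V P : Over S}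
    [IsAffine U.left] [IsAffine V.left] {a : (yon S).obj U ⟶ Z} {b : (yon S).obj V ⟶ Z} {p : P ⟶ U} {q : P ⟶ V}
    (sq : IsPullback ((yon S).map p) ((yon S).map q) a b) : IsAffine P.left := by
  haveI : IsAffineHom (pullback.lift p.left q.left ((Over.w p).trans (Over.w q).symm)) :=
    left_lift_of_isPullback (P := @IsAffineHom) (isAffineMor_iff.1 hd) sq
  exact isAffine_of_isAffineHom (pullback.lift p.left q.left ((Over.w p).trans (Over.w q).symm))

theorem exists_affine_chart {Z : Sp S} (hZ : IsAlgSpace Z) {κ : Type u} [Finite κ] (T : κ → Over S)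
    [∀ k, IsAffine (T k).left] (s : ∀ k, (yon S).obj (T k) ⟶ Z) :
    ∃ (W : Over S) (w : (yon S).obj W ⟶ Z), IsAffine W.left ∧ RepWith @Etale w ∧
      ∀ (k : κ) (P : Over S) (p : P ⟶ W) (q : P ⟶ T k),
        IsPullback ((yon S).map p) ((yon S).map q) w (s k) → Etale q.left ∧ Surjective q.left := by
  obtain ⟨U, a, ha, has⟩ := hZ.atlas
  choose Q pQ qQ sqQ using fun k => exists_isPullback_yon a (s k) ha.rep
  haveI : ∀ k, Etale (qQ k).left := fun k => etale_left (repWith_of_isPullback (sqQ k) ha)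
  haveI : ∀ k, Surjective (qQ k).left := fun k => surjective_left (repWith_of_isPullback (sqQ k) has)
  choose O hO hmem using fun x : U.left => exists_isAffineOpen_mem_and_subset (U := ⊤) (x := x) trivial
  have cov : ∀ k, ∃ F : Finset ↥U.left, ∀ y : (T k).left,
      ∃ x ∈ F, ∃ z : (Q k).left, (qQ k).left z = y ∧ (pQ k).left z ∈ O x := by
    intro k
    obtain ⟨F, hF⟩ := isCompact_univ.elim_finite_subcover
      (fun x : U.left => (qQ k).left '' ((pQ k).left ⁻¹' (O x : Set U.left)))
      (fun x => (qQ k).left.isOpenMap _ ((O x).isOpen.preimage (pQ k).left.continuous))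
      (fun y _ => by
        obtain ⟨z, hz⟩ := (qQ k).left.surjective y
        exact Set.mem_iUnion.2 ⟨(pQ k).left z, z, (hmem _).1, hz⟩)
    refine ⟨F, fun y => ?_⟩
    obtain ⟨x, hx, z, hz, rfl⟩ := Set.mem_iUnion₂.1 (hF (Set.mem_univ y))
    exact ⟨x, hx, z, rfl, hz⟩
  choose F hF using cov
  let I := Σ k : κ, {x // x ∈ F k}
  haveI : ∀ i : I, IsAffine (O i.2.1).toScheme := fun i => hO i.2.1
  let c : (∐ fun i : I => (O i.2.1).toScheme) ⟶ U.left := Sigma.desc fun i : I => (O i.2.1).ι
  let W : Over S := Over.mk (c ≫ U.hom)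
  let j : W ⟶ U := Over.homMk c rfl
  have hc : Etale c := IsZariskiLocalAtSource.sigmaDesc (P := @Etale) fun i => inferInstance
  refine ⟨W, (yon S).map j ≫ a, inferInstanceAs (IsAffine (∐ fun i : I => (O i.2.1).toScheme)),
    repWith_comp ((repWith_yon_map_iff (P := (@Etale : MorphismProperty Scheme.{u})) j).2 hc) ha,
    fun k P p q sq => ⟨etale_left (repWith_of_isPullback sq
      (repWith_comp ((repWith_yon_map_iff (P := (@Etale : MorphismProperty Scheme.{u})) j).2 hc) ha)), ⟨fun y => ?_⟩⟩⟩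
  obtain ⟨x, hx, z, hzy, hzO⟩ := hF k y
  let i : I := ⟨k, x, hx⟩
  let v : W.left := (Sigma.ι (fun i : I => (O i.2.1).toScheme) i) ⟨(pQ k).left z, hzO⟩
  have hv : c v = (pQ k).left z := by
    rw [← Scheme.Hom.comp_apply, Sigma.ι_desc]
    rfl
  obtain ⟨r, hr₁, hr₂⟩ := Scheme.Pullback.exists_preimage_pullback (f := c) (g := (pQ k).left) v z hv
  let R : Over S := Over.mk (pullback.fst c (pQ k).left ≫ W.hom)
  let r₁ : R ⟶ W := Over.homMk (pullback.fst c (pQ k).left) rfl
  let r₂ : R ⟶ Q k := Over.homMk (pullback.snd c (pQ k).left) (by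
    change _ = pullback.fst c (pQ k).left ≫ c ≫ U.hom
    rw [pullback.condition_assoc, Over.w])
  have e : r₁ ≫ j = r₂ ≫ pQ k := Over.OverMorphism.ext pullback.condition
  obtain ⟨l, hl⟩ := (yon S).map_surjective (sq.lift ((yon S).map r₁) ((yon S).map (r₂ ≫ qQ k)) (by
    rw [← Functor.map_comp_assoc, e, Functor.map_comp, Category.assoc, (sqQ k).w, Functor.map_comp, Category.assoc]))
  have hlq : l ≫ q = r₂ ≫ qQ k := (yon S).map_injective (by rw [Functor.map_comp, hl, sq.lift_snd])
  refine ⟨l.left r, ?_⟩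
  rw [← Scheme.Hom.comp_apply, ← Over.comp_left, hlq, Over.comp_left, Scheme.Hom.comp_apply]
  exact (congrArg _ hr₂).trans hzy

/-- The algebra of the part of an affine chart over an affine test object. -/
theorem exists_corner_algebra [IsAffine S] {A : Type u} [CommRing A] (t : Spec (CommRingCat.of A) ⟶ S)
    {Z : Sp S} (hd : IsAffineMor (Limits.diag Z)) {W : Over S} [IsAffine W.left] {w : (yon S).obj W ⟶ Z}
    (hw : RepWith @Etale w) (B0 : Type u) [CommRing B0] [Algebra A B0] (s : (yon S).obj (obj t B0) ⟶ Z)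
    (hcov : ∀ (P : Over S) (p : P ⟶ W) (q : P ⟶ obj t B0),
      IsPullback ((yon S).map p) ((yon S).map q) w s → Etale q.left ∧ Surjective q.left) :
    ∃ (B : Type u) (_ : CommRing B) (_ : Algebra A B) (ι : B0 →ₐ[A] B)
      (fst : (yon S).obj (obj t B) ⟶ (yon S).obj W),
      IsPullback fst ((yon S).map (objMap t ι)) w s ∧ RingHom.Etale ι.toRingHom ∧
        Function.Surjective (PrimeSpectrum.comap ι.toRingHom) := by
  obtain ⟨P, p, q, sq⟩ := exists_isPullback_yon w s hw.rep
  haveI : IsAffine (obj t B0).left := inferInstanceAs (IsAffine (Spec (CommRingCat.of B0)))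
  haveI := isAffine_of_isPullback hd sq
  obtain ⟨B, i₁, i₂, ι, fst, sq'⟩ := exists_algebra t sq
  obtain ⟨p', hp'⟩ := (yon S).map_surjective fst
  obtain ⟨h1, h2⟩ := hcov _ p' (objMap t ι) (by rw [hp']; exact sq')
  exact ⟨B, i₁, i₂, ι, fst, sq', HasRingHomProperty.Spec_iff.1 h1, h2.surj⟩

end Groth.Agent.GluePairHom
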