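import Groth.Agent.GluePairHom.Obj
import Groth.Agent.AlgSpLib.RepDescent

/-!
# Morphisms out of a glueing pair into an algebraic space are determined on the corners
-/

set_option autoImplicit false
set_option backward.isDefEq.respectTransparency false
set_option backward.isDefEq.respectTransparency.types false

universe u

open CategoryTheory CategoryTheory.Limits AlgebraicGeometry TensorProduct AlgSp AlgSpLib

noncomputable section

namespace Groth.Agent.GluePairHom

variable {S : Scheme.{u}} {A : Type u} [CommRing A] (t : Spec (CommRingCat.of A) ⟶ S)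

/-- Morphisms out of a glueing pair into an algebraic space are determined by the corners. -/
theorem hom_ext_space {Z : Sp S} (hZ : IsAlgSpace Z) {C C' : Type u} [CommRing C] [CommRing C']
    [Algebra C C'] [Algebra A C] [Algebra A C'] [IsScalarTower A C C'] {g : C}
    (h : EtGlue.IsGlueingPair C C' g) {s s' : (yon S).obj (obj t C) ⟶ Z}
    (h₁ : (yon S).map (objMap t (IsScalarTower.toAlgHom A C (Localization.Away g))) ≫ s =
      (yon S).map (objMap t (IsScalarTower.toAlgHom A C (Localization.Away g))) ≫ s')
    (h' : (yon S).map (objMap t (IsScalarTower.toAlgHom A C C')) ≫ s =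
      (yon S).map (objMap t (IsScalarTower.toAlgHom A C C')) ≫ s') : s = s' := by
  have hdg := repWith_lqf_lft_diag hZ
  obtain ⟨W, i, fst, sq⟩ := hdg.rep (prod.lift s s')
  have e1 : fst = (yon S).map i ≫ s := by
    have := congrArg (· ≫ prod.fst) sq.w
    simpa [Limits.diag] using this
  have e2 : fst = (yon S).map i ≫ s' := by
    have := congrArg (· ≫ prod.snd) sq.w
    simpa [Limits.diag] using this
  have sec : ∀ (T : Over S) (c : T ⟶ obj t C), (yon S).map c ≫ s = (yon S).map c ≫ s' →
      ∃ σ : T ⟶ W, σ ≫ i = c := fun T c hc => by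
    obtain ⟨σ, hσ⟩ := (yon S).map_surjective (sq.lift ((yon S).map c ≫ s) ((yon S).map c) (by
      apply Limits.prod.hom_ext <;> simp [Limits.diag, hc]))
    exact ⟨σ, (yon S).map_injective (by rw [Functor.map_comp, hσ, sq.lift_snd])⟩
  have mono : ∀ {T : Over S} (a b : T ⟶ W), a ≫ i = b ≫ i → a = b := fun a b hab =>
    (yon S).map_injective (sq.hom_ext (by rw [e1, ← Functor.map_comp_assoc, ← Functor.map_comp_assoc, hab])
      (by rw [← Functor.map_comp, ← Functor.map_comp, hab]))
  obtain ⟨σ₁, hσ₁⟩ := sec _ _ h₁
  obtain ⟨σ', hσ'⟩ := sec _ _ h'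
  let L := Localization.Away (algebraMap C C' g)
  let k : Localization.Away g →ₐ[A] L :=
    { cornerMap C C' g with
      commutes' := fun a => by
        have := RingHom.congr_fun (cornerMap_comp (R := C) (R' := C') (f := g)) (algebraMap A C a)
        simpa [← IsScalarTower.algebraMap_apply] using this }
  have hkk : (IsScalarTower.toAlgHom A C' L).comp (IsScalarTower.toAlgHom A C C') =
      k.comp (IsScalarTower.toAlgHom A C (Localization.Away g)) :=
    AlgHom.ext fun a => (RingHom.congr_fun (cornerMap_comp (R := C) (R' := C') (f := g)) a).symm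
  have agree : objMap t (IsScalarTower.toAlgHom A C' L) ≫ σ' = objMap t k ≫ σ₁ := mono _ _ (by
    rw [Category.assoc, Category.assoc, hσ₁, hσ', objMap_comp, objMap_comp, hkk])
  have hqf := hdg.property (prod.lift s s') fst i sq
  haveI : LocallyQuasiFinite i.left := hqf.1
  haveI : LocallyOfFiniteType i.left := hqf.2
  haveI : Mono i.left := (repWith_mono_of_mono hdg.rep).property (prod.lift s s') fst i sq
  have hinj : Function.Injective i.left := i.left.injective
  have hcov : ∀ p : PrimeSpectrum C, ∀ z : W.left, i.left z = p →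
      z ∈ Set.range σ'.left ∪ Set.range σ₁.left := by
    intro p z hz
    rcases exists_corner h p with ⟨q, hq⟩ | ⟨q, hq⟩
    · refine Or.inr ⟨q, hinj (Eq.trans ?_ hz.symm)⟩
      rw [← Scheme.Hom.comp_apply, ← Over.comp_left, hσ₁]
      exact hq
    · refine Or.inl ⟨q, hinj (Eq.trans ?_ hz.symm)⟩
      rw [← Scheme.Hom.comp_apply, ← Over.comp_left, hσ']
      exact hq
  haveI : CompactSpace W.left := by
    refine isCompact_univ_iff.1 ?_
    rw [show (Set.univ : Set W.left) = Set.range σ'.left ∪ Set.range σ₁.left from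
      (Set.eq_univ_of_forall fun z => hcov _ z rfl).symm]
    haveI : CompactSpace (obj t C').left := inferInstanceAs (CompactSpace (Spec (CommRingCat.of C')))
    haveI : CompactSpace (obj t (Localization.Away g)).left :=
      inferInstanceAs (CompactSpace (Spec (CommRingCat.of (Localization.Away g))))
    exact (isCompact_range σ'.left.continuous).union (isCompact_range σ₁.left.continuous)
  haveI : IsAffine (obj t C).left := inferInstanceAs (IsAffine (Spec (CommRingCat.of C)))
  haveI : QuasiCompact i.left := (quasiCompact_iff_compactSpace i.left).2 inferInstance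
  haveI : W.left.IsQuasiAffine := quasiAffine_of_lqf i.left
  obtain ⟨ψ, hψ', hψ₁⟩ := exists_spec_hom h (σ'.left ≫ W.left.toSpecΓ) (σ₁.left ≫ W.left.toSpecΓ)
    (by
      have e := congrArg (fun m => m.left ≫ W.left.toSpecΓ) agree
      simp only [Over.comp_left, Category.assoc] at e
      exact e)
  have hr : Set.range ψ ⊆ Set.range W.left.toSpecΓ := by
    rintro _ ⟨p, rfl⟩
    rcases exists_corner h p with ⟨q, rfl⟩ | ⟨q, rfl⟩
    · exact ⟨σ₁.left q, (congrArg (fun m => m q) (congrArg (fun m : (obj t (Localization.Away g)).left ⟶ _ =>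
        (m.base : _ → _)) hψ₁)).symm⟩
    · exact ⟨σ'.left q, (congrArg (fun m => m q) (congrArg (fun m : (obj t C').left ⟶ _ =>
        (m.base : _ → _)) hψ')).symm⟩
  obtain ⟨σ, hσl', hσl₁⟩ : ∃ σ : Spec (CommRingCat.of C) ⟶ W.left,
      Spec.map (CommRingCat.ofHom (algebraMap C C')) ≫ σ = σ'.left ∧
        Spec.map (CommRingCat.ofHom (algebraMap C (Localization.Away g))) ≫ σ = σ₁.left := by
    refine ⟨IsOpenImmersion.lift W.left.toSpecΓ ψ hr, ?_, ?_⟩
    · rw [← cancel_mono W.left.toSpecΓ, Category.assoc, IsOpenImmersion.lift_fac, hψ']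
    · rw [← cancel_mono W.left.toSpecΓ, Category.assoc, IsOpenImmersion.lift_fac, hψ₁]
  have hid : σ ≫ i.left = 𝟙 (Spec (CommRingCat.of C)) := by
    refine spec_ext h (W := Spec (CommRingCat.of C)) ?_ ?_
    · rw [← Category.assoc, hσl', Category.comp_id]; exact congrArg CommaMorphism.left hσ'
    · rw [← Category.assoc, hσl₁, Category.comp_id]; exact congrArg CommaMorphism.left hσ₁
  let σo : obj t C ⟶ W := Over.homMk σ (by
    rw [← Over.w i, ← Category.assoc]
    exact (congrArg (· ≫ _) hid).trans (Category.id_comp _))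
  have hσo : σo ≫ i = 𝟙 _ := Over.OverMorphism.ext hid
  have key : (yon S).map σo ≫ (yon S).map i = 𝟙 _ := by
    rw [← Functor.map_comp, hσo, CategoryTheory.Functor.map_id]
  calc s = ((yon S).map σo ≫ (yon S).map i) ≫ s := by rw [key, Category.id_comp]
    _ = ((yon S).map σo ≫ (yon S).map i) ≫ s' := by rw [Category.assoc, ← e1, e2, Category.assoc]
    _ = s' := by rw [key, Category.id_comp]

end Groth.Agent.GluePairHom
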