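import Groth.Agent.GluePairHom.Main
import Groth.Agent.GluePairHom.HomExt

/-!
# Morphisms out of affine charts agreeing on both corners
-/

set_option autoImplicit false
set_option maxHeartbeats 1000000
set_option backward.isDefEq.respectTransparency false
set_option backward.isDefEq.respectTransparency.types false

universe u

open CategoryTheory CategoryTheory.Limits AlgebraicGeometry TensorProduct AlgSp AlgSpLib

noncomputable section

namespace Groth.Agent.GluePairHom

variable {R : Type u} [CommRing R] {R' : Type u} [CommRing R'] [Algebra R R'] {f : R} {Y Z : Sp (Spec (CommRingCat.of R))}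


attribute [local instance] Algebra.TensorProduct.rightAlgebra in
/-- Uniqueness on an affine etale chart of a glueable space. -/
theorem eq_of_corners (h : EtGlue.IsGlueingPair R R' f) (hZ : IsAlgSpace Z)
    (hY : ∀ (A : Type u) [CommRing A] [Algebra R A]
      (g : (yon (Spec (CommRingCat.of R))).obj (Over.mk (Spec.map (CommRingCat.ofHom (algebraMap R A))) : Over (Spec (CommRingCat.of R))) ⟶ Y),
      RepWith @Etale g → EtGlue.IsGlueable R R' f A)
    {V : Over (Spec (CommRingCat.of R))} [IsAffine V.left] (g : (yon (Spec (CommRingCat.of R))).obj V ⟶ Y) (hg : RepWith @Etale g)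
    {s s' : (yon (Spec (CommRingCat.of R))).obj V ⟶ Z}
    (hU : ∀ (T : Over (Spec (CommRingCat.of R))) (e : T ⟶ V), (T ⟶ (Over.mk (Spec.map (CommRingCat.ofHom (algebraMap R (Localization.Away f)))) : Over (Spec (CommRingCat.of R)))) → (yon (Spec (CommRingCat.of R))).map e ≫ s = (yon (Spec (CommRingCat.of R))).map e ≫ s')
    (hX : ∀ (T : Over (Spec (CommRingCat.of R))) (e : T ⟶ V), (T ⟶ (Over.mk (Spec.map (CommRingCat.ofHom (algebraMap R R'))) : Over (Spec (CommRingCat.of R)))) → (yon (Spec (CommRingCat.of R))).map e ≫ s = (yon (Spec (CommRingCat.of R))).map e ≫ s') : s = s' := by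
  obtain ⟨A, _, _, ⟨ε⟩⟩ := exists_obj_iso V
  let t := Spec.map (CommRingCat.ofHom (algebraMap R A))
  let η₀ := selfIso t
  have hA := hY A ((yon (Spec (CommRingCat.of R))).map (η₀ ≪≫ ε).hom ≫ g)
    (((RepWith @Etale).cancel_left_of_respectsIso _ _).2 hg)
  have hp := glueingPair_tensor h A hA
  obtain ⟨r₁⟩ := exists_toU (R := R) (f := f) A
  obtain ⟨r₂⟩ := exists_toX (R := R) (R' := R') A
  rw [← cancel_epi ((yon (Spec (CommRingCat.of R))).map ε.hom)]
  refine hom_ext_space t hZ hp ?_ ?_
  · rw [← Functor.map_comp_assoc, ← Functor.map_comp_assoc]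
    exact hU _ _ r₁
  · rw [← Functor.map_comp_assoc, ← Functor.map_comp_assoc]
    exact hX _ _ r₂

end Groth.Agent.GluePairHom
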