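import Groth.Agent.GluePairHom.Main
import Groth.Agent.S2005

/-!
# Glueability is etale local
-/

set_option autoImplicit false
set_option backward.isDefEq.respectTransparency false
set_option backward.isDefEq.respectTransparency.types false

universe u

open CategoryTheory CategoryTheory.Limits AlgebraicGeometry TensorProduct AlgSp AlgSpLib

noncomputable section

namespace Groth.Agent.GluePairHom

variable {R R' : Type u} [CommRing R] [CommRing R'] [Algebra R R'] {f : R}

attribute [local instance] Algebra.TensorProduct.rightAlgebra in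
/-- A flat algebra over a glueable algebra is glueable: the torsion criterion. -/
theorem torsion_injective_of_flat (h : EtGlue.IsGlueingPair R R' f) {Ak D : Type u} [CommRing Ak] [Algebra R Ak]
    (hAk : EtGlue.IsGlueable R R' f Ak) [CommRing D] [Algebra R D] [Algebra Ak D] [IsScalarTower R Ak D]
    [Module.Flat Ak D] (d : D) (hd : ∃ n : ℕ, f ^ n • d = 0) (h0 : (1 : R') ⊗ₜ[R] d = 0) : d = 0 := by
  have hp := glueingPair_tensor h Ak hAk
  refine ((Groth.Agent.S2005.result Ak (R' ⊗[R] Ak) (algebraMap R Ak f) hp.1 D).1.1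
    (isGlueable_of_flat hp D)).1 d ?_ ?_
  · obtain ⟨n, hn⟩ := hd
    exact ⟨n, by rw [← map_pow, algebraMap_smul, hn]⟩
  · let μ : R' ⊗[R] D →ₐ[R] (R' ⊗[R] Ak) ⊗[Ak] D :=
      Algebra.TensorProduct.lift
        (((Algebra.TensorProduct.includeLeft : (R' ⊗[R] Ak) →ₐ[R] (R' ⊗[R] Ak) ⊗[Ak] D)).comp
          Algebra.TensorProduct.includeLeft)
        ((Algebra.TensorProduct.includeRight : D →ₐ[Ak] (R' ⊗[R] Ak) ⊗[Ak] D).restrictScalars R)
        (fun _ _ => Commute.all _ _)
    have := congrArg μ h0
    simpa [μ, ← Algebra.TensorProduct.one_def] using this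

/-- An element killed in a family of flat algebras covering the spectrum vanishes. -/
theorem eq_zero_of_flat_cover {A : Type u} [CommRing A] (m : A)
    (h : ∀ p : PrimeSpectrum A, ∃ (D : Type u) (_ : CommRing D) (φ : A →+* D) (q : PrimeSpectrum D),
      φ.Flat ∧ PrimeSpectrum.comap φ q = p ∧ φ m = 0) : m = 0 := by
  by_contra hm
  let I : Ideal A := LinearMap.ker (LinearMap.toSpanSingleton A A m)
  have hI : I ≠ ⊤ := fun e => hm (by
    have h1 : (1 : A) ∈ I := e ▸ trivial
    simpa [I] using h1)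
  obtain ⟨P, hP, hIP⟩ := I.exists_le_maximal hI
  obtain ⟨D, _, φ, q, hflat, hq, h0⟩ := h ⟨P, hP.isPrime⟩
  let _ : Algebra A D := φ.toAlgebra
  haveI : Module.Flat A D := hflat
  obtain ⟨n, a, y, hy, ha⟩ := Module.Flat.isTrivialRelation_of_sum_smul_eq_zero
    (f := fun _ : Fin 1 => m) (x := fun _ : Fin 1 => (1 : D))
    (by simp only [Finset.univ_unique, Finset.sum_singleton, Algebra.smul_def, mul_one]; exact h0)
  refine q.isPrime.ne_top ((Ideal.eq_top_iff_one _).2 ?_)
  have h1 : (1 : D) = ∑ j, a 0 j • y j := hy 0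
  rw [h1]
  refine Ideal.sum_mem _ fun j _ => ?_
  rw [Algebra.smul_def]
  refine Ideal.mul_mem_right _ _ ?_
  have hj : a 0 j ∈ I := by
    have := ha j
    simp only [Finset.univ_unique, Finset.sum_singleton] at this
    simpa [I, mul_comm] using this
  have h2 := hIP hj
  have h3 : P = q.asIdeal.comap φ := (congrArg PrimeSpectrum.asIdeal hq).symm
  rw [h3] at h2
  exact h2

/-- An affine scheme mapped to a test object. -/
theorem exists_algHom {A D : Type u} [CommRing A] [Algebra R A] [CommRing D] [Algebra R D]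
    (e : obj (Spec.map (CommRingCat.ofHom (algebraMap R D))) D ⟶
      (Over.mk (Spec.map (CommRingCat.ofHom (algebraMap R A))) : Over (Spec (CommRingCat.of R)))) :
    ∃ φ : A →ₐ[R] D, e.left = Spec.map (CommRingCat.ofHom φ.toRingHom) := by
  obtain ⟨g, hg⟩ := Spec.map_surjective e.left
  have w := Over.w e
  simp only [Over.mk_hom, ← hg, Algebra.algebraMap_self, CommRingCat.ofHom_id, Spec.map_id, Category.id_comp,
    ← Spec.map_comp] at w
  have h := congrArg CommRingCat.Hom.hom (Spec.map_injective w)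
  exact ⟨{ g.hom with commutes' := fun r => RingHom.congr_fun h r }, hg.symm⟩

theorem glueable_of_cover (h : EtGlue.IsGlueingPair R R' f) {Y : Sp (Spec (CommRingCat.of R))} {κ : Type u}
    {Ak : κ → Type u} [∀ k, CommRing (Ak k)] [∀ k, Algebra R (Ak k)]
    (g : ∀ k, (yon (Spec (CommRingCat.of R))).obj
      (Over.mk (Spec.map (CommRingCat.ofHom (algebraMap R (Ak k)))) : Over (Spec (CommRingCat.of R))) ⟶ Y)
    (hg : ∀ k, RepWith @Etale (g k)) (hcov : ∀ y : Points Y, ∃ k, y ∈ Set.range (Points.map (g k)))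
    (hAk : ∀ k, EtGlue.IsGlueable R R' f (Ak k)) (A : Type u) [CommRing A] [Algebra R A]
    (a : (yon (Spec (CommRingCat.of R))).obj
      (Over.mk (Spec.map (CommRingCat.ofHom (algebraMap R A))) : Over (Spec (CommRingCat.of R))) ⟶ Y)
    (ha : RepWith @Etale a) : EtGlue.IsGlueable R R' f A := by
  refine ((Groth.Agent.S2005.result R R' f h.1 A).2 h).2 fun m hm h0 => eq_zero_of_flat_cover m fun p => ?_
  let T : Over (Spec (CommRingCat.of R)) := Over.mk (Spec.map (CommRingCat.ofHom (algebraMap R A)))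
  let p' : T.left := p
  obtain ⟨k, x, hx⟩ := hcov (Points.ofPt a p')
  obtain ⟨P, pk, pa, sq⟩ := exists_isPullback_yon (g k) a (hg k).rep
  obtain ⟨w, -, hw⟩ := exists_point_isPullback sq x (Points.ofScheme T p') (by
    rw [hx, Points.ofScheme, Points.map_ofPt, Category.id_comp])
  obtain ⟨z, rfl⟩ := (Points.schemeEquiv P).surjective w
  have hz : pa.left z = p' := by
    have e := congrArg (Points.toScheme T) hw
    change Points.toScheme T (Points.map _ (Points.ofPt (𝟙 _) z)) = _ at e
    rw [Points.map_ofPt, Category.id_comp, Points.toScheme_ofPt, Points.toScheme_ofScheme] at e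
    exact e
  haveI : Etale pa.left := etale_left (repWith_of_isPullback sq (hg k))
  haveI : Etale pk.left := etale_left (repWith_of_isPullback sq.flip ha)
  obtain ⟨O, hO, hzO, -⟩ := exists_isAffineOpen_mem_and_subset (U := ⊤) (x := z) trivial
  let o : (Over.mk (O.ι ≫ P.hom) : Over (Spec (CommRingCat.of R))) ⟶ P := Over.homMk O.ι rfl
  haveI : IsAffine (Over.mk (O.ι ≫ P.hom)).left := hO
  obtain ⟨D, _, _, ⟨ε⟩⟩ := exists_obj_iso (Over.mk (O.ι ≫ P.hom) : Over (Spec (CommRingCat.of R)))
  obtain ⟨φa, hφa⟩ := exists_algHom (ε.hom ≫ o ≫ pa)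
  obtain ⟨φk, hφk⟩ := exists_algHom (ε.hom ≫ o ≫ pk)
  haveI : IsOpenImmersion o.left := inferInstanceAs (IsOpenImmersion O.ι)
  haveI : IsIso ε.hom.left := inferInstanceAs (IsIso ((Over.forget _).map ε.hom))
  have hfa : φa.toRingHom.Etale := by
    have h1 : Etale (Spec.map (CommRingCat.ofHom φa.toRingHom)) := by
      rw [← hφa]; exact show Etale (ε.hom.left ≫ o.left ≫ pa.left) from inferInstance
    exact HasRingHomProperty.Spec_iff.1 h1
  have hfk : φk.toRingHom.Etale := by
    have h1 : Etale (Spec.map (CommRingCat.ofHom φk.toRingHom)) := by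
      rw [← hφk]; exact show Etale (ε.hom.left ≫ o.left ≫ pk.left) from inferInstance
    exact HasRingHomProperty.Spec_iff.1 h1
  let zO : (Over.mk (O.ι ≫ P.hom) : Over (Spec (CommRingCat.of R))).left := ⟨z, hzO⟩
  refine ⟨D, inferInstance, φa.toRingHom, ε.inv.left zO, ?_, ?_, ?_⟩
  · let _ : Algebra A D := φa.toRingHom.toAlgebra
    haveI : Algebra.Etale A D := RingHom.etale_algebraMap.1 hfa
    exact (inferInstance : Module.Flat A D)
  · refine Eq.trans ?_ hz
    change (Spec.map (CommRingCat.ofHom φa.toRingHom)) (ε.inv.left zO) = _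
    rw [← hφa]
    change pa.left (o.left ((ε.inv ≫ ε.hom).left zO)) = pa.left z
    rw [ε.inv_hom_id]
    rfl
  · let _ : Algebra (Ak k) D := φk.toRingHom.toAlgebra
    haveI : IsScalarTower R (Ak k) D := IsScalarTower.of_algebraMap_eq fun r => (φk.commutes r).symm
    haveI : Algebra.Etale (Ak k) D := RingHom.etale_algebraMap.1 hfk
    refine torsion_injective_of_flat h (hAk k) (φa m) ?_ ?_
    · obtain ⟨n, hn⟩ := hm
      exact ⟨n, by rw [← map_smul, hn, map_zero]⟩
    · have := congrArg (Algebra.TensorProduct.map (AlgHom.id R R') φa) h0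
      simpa using this

end Groth.Agent.GluePairHom
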