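import Groth.Agent.GluePairHom.Charts
import Groth.Agent.S10727

/-!
# Morphisms out of the spectrum of a glueing pair into an algebraic space with affine diagonal
-/

set_option autoImplicit false
set_option maxHeartbeats 1000000
set_option backward.isDefEq.respectTransparency false
set_option backward.isDefEq.respectTransparency.types false

universe u

open CategoryTheory CategoryTheory.Limits AlgebraicGeometry TensorProduct AlgSp AlgSpLib

noncomputable section

namespace Groth.Agent.GluePairHom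

variable {A A' : Type u} [CommRing A] [CommRing A'] [Algebra A A'] {f : A}

/-- The map from `A_f` to an algebra in which `f` is invertible. -/
def awayHom (f : A) {D : Type u} [CommRing D] [Algebra A D] (h : IsUnit (algebraMap A D f)) :
    Localization.Away f →ₐ[A] D :=
  { IsLocalization.Away.lift (S := Localization.Away f) f h with
    commutes' := fun a => IsLocalization.Away.lift_eq f h a }

theorem away_ext {D : Type u} [CommRing D] [Algebra A D] (φ ψ : Localization.Away f →ₐ[A] D) : φ = ψ :=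
  IsLocalization.algHom_ext (Submonoid.powers f) (Subsingleton.elim _ _)

theorem isUnit_away (f : A) : IsUnit (algebraMap A (Localization.Away f) f) :=
  IsLocalization.Away.algebraMap_isUnit f

/-- Factor through the overlap of the corners. -/
theorem map_corner_eq {S : Scheme.{u}} (t : Spec (CommRingCat.of A) ⟶ S) {Z : Sp S}
    {s₁ : (yon S).obj (obj t (Localization.Away f)) ⟶ Z} {s₂ : (yon S).obj (obj t A') ⟶ Z}
    (k : Localization.Away f →ₐ[A] Localization.Away (algebraMap A A' f))
    (hs : (yon S).map (objMap t k) ≫ s₁ =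
      (yon S).map (objMap t (IsScalarTower.toAlgHom A A' (Localization.Away (algebraMap A A' f)))) ≫ s₂)
    {D : Type u} [CommRing D] [Algebra A D] (φ₁ : Localization.Away f →ₐ[A] D) (φ₂ : A' →ₐ[A] D) :
    (yon S).map (objMap t φ₁) ≫ s₁ = (yon S).map (objMap t φ₂) ≫ s₂ := by
  have hu : IsUnit (φ₂ (algebraMap A A' f)) := by
    rw [φ₂.commutes, ← φ₁.commutes]
    exact (isUnit_away f).map φ₁
  let u : Localization.Away (algebraMap A A' f) →ₐ[A] D :=
    { IsLocalization.Away.lift (S := Localization.Away (algebraMap A A' f)) (algebraMap A A' f)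
        (g := φ₂.toRingHom) hu with
      commutes' := fun a => by
        rw [IsScalarTower.algebraMap_apply A A' (Localization.Away (algebraMap A A' f))]
        exact (IsLocalization.Away.lift_eq _ hu _).trans (φ₂.commutes a) }
  have h2 : φ₂ = u.comp (IsScalarTower.toAlgHom A A' (Localization.Away (algebraMap A A' f))) :=
    AlgHom.ext fun a => (IsLocalization.Away.lift_eq _ hu a).symm
  rw [away_ext φ₁ (u.comp k), h2, ← objMap_comp, ← objMap_comp, Functor.map_comp, Functor.map_comp,
    Category.assoc, Category.assoc, hs]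

/-- An algebra which is etale on both corners is etale. -/
theorem etale_of_corners (h : EtGlue.IsGlueingPair A A' f) {B : Type u} [CommRing B] [Algebra A B]
    {B₁ : Type u} [CommRing B₁] [Algebra A B₁] (ι₁ : Localization.Away f →ₐ[A] B₁) (h₁ : RingHom.Etale ι₁.toRingHom)
    (e₁ : Localization.Away (algebraMap A B f) ≃ₐ[A] B₁)
    {B₂ : Type u} [CommRing B₂] [Algebra A B₂] [Algebra A' B₂] (h₂ : Algebra.Etale A' B₂)
    (e' : A' ⊗[A] B ≃ₐ[A'] B₂) : Algebra.Etale A B := by
  haveI : Algebra.Etale A' (A' ⊗[A] B) := Algebra.Etale.of_equiv e'.symm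
  let _ : Algebra (Localization.Away f) B₁ := ι₁.toRingHom.toAlgebra
  haveI : Algebra.Etale (Localization.Away f) B₁ := (RingHom.etale_algebraMap).1 h₁
  let g : Localization.Away f ⊗[A] B ≃ₐ[A] B₁ :=
    (Algebra.TensorProduct.comm A (Localization.Away f) B).trans
      (((IsLocalization.Away.tensorEquiv B (A := Localization.Away f) (r := f)).restrictScalars A).trans e₁)
  let g' : Localization.Away f ⊗[A] B ≃ₐ[Localization.Away f] B₁ :=
    AlgEquiv.ofRingEquiv (f := g.toRingEquiv) fun x => AlgHom.congr_fun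
      (away_ext (g.toAlgHom.comp Algebra.TensorProduct.includeLeft) ι₁) x
  haveI : Algebra.Etale (Localization.Away f) (Localization.Away f ⊗[A] B) := Algebra.Etale.of_equiv g'.symm
  exact GlueAlgLib.etale_of_glueing h B

/-- An algebra which is surjective on both corners is surjective. -/
theorem surjective_of_corners (h : EtGlue.IsGlueingPair A A' f) {B : Type u} [CommRing B] [Algebra A B]
    {B₁ : Type u} [CommRing B₁] [Algebra A B₁] (ι₁ : Localization.Away f →ₐ[A] B₁) (j₁ : B →ₐ[A] B₁)
    (h₁ : Function.Surjective (PrimeSpectrum.comap ι₁.toRingHom))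
    {B₂ : Type u} [CommRing B₂] [Algebra A B₂] (ι₂ : A' →ₐ[A] B₂) (j₂ : B →ₐ[A] B₂)
    (h₂ : Function.Surjective (PrimeSpectrum.comap ι₂.toRingHom)) :
    Function.Surjective (PrimeSpectrum.comap (algebraMap A B)) := by
  intro p
  rcases exists_corner h p with ⟨q, rfl⟩ | ⟨q, rfl⟩
  · obtain ⟨r, rfl⟩ := h₁ q
    refine ⟨PrimeSpectrum.comap j₁.toRingHom r, PrimeSpectrum.ext (Ideal.ext fun a => ?_)⟩
    simp
  · obtain ⟨r, rfl⟩ := h₂ q
    refine ⟨PrimeSpectrum.comap j₂.toRingHom r, PrimeSpectrum.ext (Ideal.ext fun a => ?_)⟩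
    simp

attribute [local instance] Algebra.TensorProduct.rightAlgebra in
/-- The two projections of `Spec (B ⊗ B)` agree on a morphism which comes from the corners. -/
theorem proj_agree {S : Scheme.{u}} (t : Spec (CommRingCat.of A) ⟶ S) (h : EtGlue.IsGlueingPair A A' f) {Z : Sp S}
    (hd : IsAffineMor (Limits.diag Z)) {B : Type u} [CommRing B] [Algebra A B] [Module.Flat A B]
    (x : (yon S).obj (obj t B) ⟶ Z) (s₁ : (yon S).obj (obj t (Localization.Away f)) ⟶ Z)
    (s₂ : (yon S).obj (obj t A') ⟶ Z)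
    (hx₁ : ∀ (D : Type u) [CommRing D] [Algebra A D] (g : B →ₐ[A] D) (ρ : Localization.Away f →ₐ[A] D),
      (yon S).map (objMap t g) ≫ x = (yon S).map (objMap t ρ) ≫ s₁)
    (hx₂ : ∀ (D : Type u) [CommRing D] [Algebra A D] (g : B →ₐ[A] D) (ρ : A' →ₐ[A] D),
      (yon S).map (objMap t g) ≫ x = (yon S).map (objMap t ρ) ≫ s₂) :
    (yon S).map (objMap t (Algebra.TensorProduct.includeLeft : B →ₐ[A] B ⊗[A] B)) ≫ x =
      (yon S).map (objMap t (Algebra.TensorProduct.includeRight : B →ₐ[A] B ⊗[A] B)) ≫ x := by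
  have hp := glueingPair_tensor h (B ⊗[A] B) (isGlueable_of_flat h (B ⊗[A] B))
  haveI : IsScalarTower A (B ⊗[A] B) (A' ⊗[A] (B ⊗[A] B)) := IsScalarTower.of_algebraMap_eq fun r =>
    (Algebra.TensorProduct.includeRight.commutes r).symm
  have hu : IsUnit (algebraMap A (Localization.Away (algebraMap A (B ⊗[A] B) f)) f) := by
    rw [IsScalarTower.algebraMap_apply A (B ⊗[A] B) (Localization.Away (algebraMap A (B ⊗[A] B) f))]
    exact IsLocalization.Away.algebraMap_isUnit _
  refine hom_ext t hd hp ?_ ?_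
  · rw [map_objMap_comp, map_objMap_comp, hx₁ _ _ (awayHom f hu), hx₁ _ _ (awayHom f hu)]
  · rw [map_objMap_comp, map_objMap_comp, hx₂ _ _ Algebra.TensorProduct.includeLeft,
      hx₂ _ _ Algebra.TensorProduct.includeLeft]

/-- Descent of a morphism along an etale surjective algebra. -/
theorem exists_desc {S : Scheme.{u}} (t : Spec (CommRingCat.of A) ⟶ S) {Z : Sp S} {B : Type u} [CommRing B]
    [Algebra A B] [Algebra.Etale A B] (hs : Function.Surjective (PrimeSpectrum.comap (algebraMap A B)))
    (x : (yon S).obj (obj t B) ⟶ Z)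
    (hx : (yon S).map (objMap t (Algebra.TensorProduct.includeLeft : B →ₐ[A] B ⊗[A] B)) ≫ x =
      (yon S).map (objMap t (Algebra.TensorProduct.includeRight : B →ₐ[A] B ⊗[A] B)) ≫ x) :
    ∃ s : (yon S).obj (obj t A) ⟶ Z, (yon S).map (objMap t (Algebra.ofId A B)) ≫ s = x := by
  haveI : Etale (objMap t (Algebra.ofId A B)).left :=
    HasRingHomProperty.Spec_iff.2 (RingHom.etale_algebraMap.2 inferInstance)
  obtain ⟨s, hsx⟩ := exists_amalgamation (fun _ : PUnit.{u + 1} => objMap t (Algebra.ofId A B))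
    (fun _ => inferInstance) (fun _ => inferInstance)
    (fun p => ⟨⟨⟩, hs p⟩) (fun _ => x) (fun _ _ T gi gj hg => by
      have hg' : gi.left ≫ Spec.map (CommRingCat.ofHom (algebraMap A B)) =
          gj.left ≫ Spec.map (CommRingCat.ofHom (algebraMap A B)) := congrArg CommaMorphism.left hg
      have hpb := AlgebraicGeometry.isPullback_SpecMap_of_isPushout _ _ _ _
        (CommRingCat.isPushout_tensorProduct A B B)
      have hl₁ := hpb.lift_fst gi.left gj.left hg'
      have hl₂ := hpb.lift_snd gi.left gj.left hg'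
      let l : T ⟶ obj t (B ⊗[A] B) := Over.homMk (hpb.lift gi.left gj.left hg') (by
        change _ ≫ Spec.map (CommRingCat.ofHom (algebraMap A (B ⊗[A] B))) ≫ t = _
        rw [← (Algebra.TensorProduct.includeLeft : B →ₐ[A] B ⊗[A] B).comp_algebraMap, CommRingCat.ofHom_comp,
          Spec.map_comp, Category.assoc]
        exact (Category.assoc _ _ _).symm.trans ((congrArg (· ≫ _) hl₁).trans (Over.w gi)))
      have e1 : l ≫ objMap t Algebra.TensorProduct.includeLeft = gi := Over.OverMorphism.ext hl₁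
      have e2 : l ≫ objMap t Algebra.TensorProduct.includeRight = gj := Over.OverMorphism.ext hl₂
      rw [← e1, ← e2, Functor.map_comp, Functor.map_comp, Category.assoc, Category.assoc, hx])
  exact ⟨s, hsx ⟨⟩⟩

/-- Morphisms on the corners which agree on the overlap glue. -/
theorem exists_glue {S : Scheme.{u}} [IsAffine S] (t : Spec (CommRingCat.of A) ⟶ S)
    (h : EtGlue.IsGlueingPair A A' f) {Z : Sp S} (hZ : IsAlgSpace Z) (hd : IsAffineMor (Limits.diag Z))
    (s₁ : (yon S).obj (obj t (Localization.Away f)) ⟶ Z) (s₂ : (yon S).obj (obj t A') ⟶ Z)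
    (k : Localization.Away f →ₐ[A] Localization.Away (algebraMap A A' f))
    (hs : (yon S).map (objMap t k) ≫ s₁ =
      (yon S).map (objMap t (IsScalarTower.toAlgHom A A' (Localization.Away (algebraMap A A' f)))) ≫ s₂) :
    ∃ s : (yon S).obj (obj t A) ⟶ Z,
      (yon S).map (objMap t (Algebra.ofId A (Localization.Away f))) ≫ s = s₁ ∧
        (yon S).map (objMap t (Algebra.ofId A A')) ≫ s = s₂ := by
  let Tk : ULift.{u} Bool → Over S := fun b => match b.down with
    | true => obj t (Localization.Away f)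
    | false => obj t A'
  haveI : ∀ b, IsAffine (Tk b).left := fun ⟨b⟩ => by
    cases b
    · exact inferInstanceAs (IsAffine (Spec (CommRingCat.of A')))
    · exact inferInstanceAs (IsAffine (Spec (CommRingCat.of (Localization.Away f))))
  obtain ⟨W, w, hW, hw, hcov⟩ := exists_affine_chart hZ Tk (fun ⟨b⟩ => match b with
    | true => s₁
    | false => s₂)
  obtain ⟨B₁, _, _, ι₁, z₁, sq₁, hι₁, hι₁s⟩ := exists_corner_algebra t hd hw _ s₁ (hcov ⟨true⟩)
  obtain ⟨B₂, _, _, ι₂, z₂, sq₂, hι₂, hι₂s⟩ := exists_corner_algebra t hd hw _ s₂ (hcov ⟨false⟩)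
  let _ : Algebra A' B₂ := ι₂.toRingHom.toAlgebra
  haveI : IsScalarTower A A' B₂ := IsScalarTower.of_algebraMap_eq fun a => (ι₂.commutes a).symm
  let L := Localization.Away (algebraMap A B₂ f)
  let T := A' ⊗[A] B₁
  have hu₁ : IsUnit (algebraMap A B₁ f) := by
    rw [← ι₁.commutes]; exact (isUnit_away f).map ι₁
  have huL : IsUnit (algebraMap A L f) := by
    rw [IsScalarTower.algebraMap_apply A B₂ L]; exact IsLocalization.Away.algebraMap_isUnit _
  let inR : B₁ →ₐ[A] T := Algebra.TensorProduct.includeRight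
  let inL : A' →ₐ[A] T := Algebra.TensorProduct.includeLeft
  have huT : IsUnit (algebraMap A T f) := by
    rw [← inR.commutes]; exact hu₁.map inR
  let toL : B₂ →ₐ[A] L := IsScalarTower.toAlgHom A B₂ L
  obtain ⟨χ, ⟨hχι, hχz⟩, -⟩ := existsUnique_algHom t sq₂ inL ((yon S).map (objMap t inR) ≫ z₁) (by
    rw [Category.assoc, sq₁.w, map_objMap_comp]
    exact map_corner_eq t k hs (inR.comp ι₁) inL)
  obtain ⟨ψ, ⟨hψι, hψz⟩, -⟩ := existsUnique_algHom t sq₁ (awayHom f huL) ((yon S).map (objMap t toL) ≫ z₂) (by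
    rw [Category.assoc, sq₂.w, map_objMap_comp]
    exact (map_corner_eq t k hs (awayHom f huL) (toL.comp ι₂)).symm)
  have hχu : IsUnit (χ (algebraMap A B₂ f)) := by rw [χ.commutes]; exact huT
  let χL : L →ₐ[A] T :=
    { IsLocalization.Away.lift (S := L) (algebraMap A B₂ f) (g := χ.toRingHom) hχu with
      commutes' := fun a => by
        rw [IsScalarTower.algebraMap_apply A B₂ L]
        exact (IsLocalization.Away.lift_eq _ hχu _).trans (χ.commutes a) }
  have hχL : χL.comp toL = χ := AlgHom.ext fun x => IsLocalization.Away.lift_eq _ hχu x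
  let back : T →ₐ[A] L := Algebra.TensorProduct.productMap (toL.comp ι₂) ψ
  have hbL : back.comp inL = toL.comp ι₂ := Algebra.TensorProduct.productMap_left _ _
  have hbR : back.comp inR = ψ := Algebra.TensorProduct.productMap_right _ _
  have h12 : χL.comp back = AlgHom.id A T := by
    refine Algebra.TensorProduct.ext' fun x y => ?_
    have hR : χL.comp ψ = inR := by
      refine (existsUnique_algHom t sq₁ (inR.comp ι₁) ((yon S).map (objMap t inR) ≫ z₁) (by
        rw [Category.assoc, sq₁.w, map_objMap_comp])).unique ⟨?_, ?_⟩ ⟨rfl, rfl⟩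
      · exact away_ext _ _
      · rw [← map_objMap_comp t ψ χL, hψz, map_objMap_comp, hχL, hχz]
    have hL : χL.comp (toL.comp ι₂) = inL := by rw [← AlgHom.comp_assoc, hχL, hχι]
    change χL ((toL.comp ι₂) x * ψ y) = x ⊗ₜ[A] y
    rw [map_mul]
    rw [← AlgHom.comp_apply χL, ← AlgHom.comp_apply χL ψ, hR, hL]
    change (x ⊗ₜ[A] (1 : B₁)) * ((1 : A') ⊗ₜ[A] y) = x ⊗ₜ[A] y
    rw [Algebra.TensorProduct.tmul_mul_tmul, mul_one, one_mul]
  have h21 : back.comp χL = AlgHom.id A L := by
    have : (back.comp χL).comp toL = toL := by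
      rw [AlgHom.comp_assoc, hχL]
      refine (existsUnique_algHom t sq₂ (toL.comp ι₂) ((yon S).map (objMap t toL) ≫ z₂) (by
        rw [Category.assoc, sq₂.w, map_objMap_comp])).unique ⟨?_, ?_⟩ ⟨rfl, rfl⟩
      · rw [AlgHom.comp_assoc, hχι, hbL]
      · rw [← map_objMap_comp t χ back, hχz, map_objMap_comp, hbR, hψz]
    exact IsLocalization.algHom_ext (Submonoid.powers (algebraMap A B₂ f)) (AlgHom.ext fun x => AlgHom.congr_fun this x)
  let φA : L ≃ₐ[A] T := AlgEquiv.ofAlgHom χL back h12 h21
  let φ : L ≃ₐ[A'] T := AlgEquiv.ofRingEquiv (f := φA.toRingEquiv) fun x => by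
    rw [IsScalarTower.algebraMap_apply A' B₂ L]
    exact (AlgHom.congr_fun hχL _).trans (AlgHom.congr_fun hχι x)
  obtain ⟨B, _, _, hB, e₁, e', he⟩ := Groth.Agent.S10727.result A A' f h B₁ hu₁ B₂ φ
  let j₁ : B →ₐ[A] B₁ := e₁.toAlgHom.comp (IsScalarTower.toAlgHom A B (Localization.Away (algebraMap A B f)))
  let j₂ : B →ₐ[A] B₂ := (e'.toAlgHom.restrictScalars A).comp Algebra.TensorProduct.includeRight
  haveI : Algebra.Etale A B :=
    etale_of_corners h ι₁ hι₁ e₁ (RingHom.etale_algebraMap.1 (show (algebraMap A' B₂).Etale from hι₂)) e'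
  have hBs := surjective_of_corners h ι₁ j₁ hι₁s ι₂ j₂ hι₂s
  let _ : Algebra B B₂ := j₂.toRingHom.toAlgebra
  haveI : IsScalarTower A B B₂ := IsScalarTower.of_algebraMap_eq fun a => (j₂.commutes a).symm
  have hpB : EtGlue.IsGlueingPair B B₂ (algebraMap A B f) :=
    GlueAlgLib.glueingPair_baseChange h B B₂ (e'.restrictScalars A) (fun b => rfl) hB
  haveI : IsLocalization.Away (algebraMap B B₂ (algebraMap A B f)) L := by
    rw [← IsScalarTower.algebraMap_apply A B B₂]
    infer_instance
  let k' : Localization.Away (algebraMap A B f) →ₐ[A] L := back.comp (inR.comp e₁.toAlgHom)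
  have hk' : k'.toRingHom.comp (algebraMap B (Localization.Away (algebraMap A B f))) =
      (algebraMap B₂ L).comp (algebraMap B B₂) := RingHom.ext fun b =>
    ((congrArg φA.symm (he b)).symm.trans (φA.symm_apply_apply _))
  obtain ⟨u₁, hu₁'⟩ := (yon S).map_surjective z₁
  obtain ⟨u₂, hu₂'⟩ := (yon S).map_surjective z₂
  subst hu₁'
  subst hu₂'
  have hψu : objMap t ψ ≫ u₁ = objMap t toL ≫ u₂ := (yon S).map_injective (by
    rw [Functor.map_comp, Functor.map_comp, hψz])
  let ε : B₁ →ₐ[A] Localization.Away (algebraMap A B f) := e₁.symm.toAlgHom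
  have hkε : k'.comp ε = ψ := AlgHom.ext fun x => by
    change back (inR (e₁ (e₁.symm x))) = ψ x
    rw [e₁.apply_symm_apply]
    exact AlgHom.congr_fun hbR x
  obtain ⟨v, hv₂, hv₁⟩ := exists_spec_hom' hpB k'.toRingHom hk' u₂.left
    ((objMap t ε).left ≫ u₁.left) (by
      have e := congrArg CommaMorphism.left ((congrArg (objMap t · ≫ u₁) hkε).trans hψu)
      rw [← objMap_comp] at e
      simp only [Over.comp_left, Category.assoc] at e
      exact e.symm)
  let c₁ : B →ₐ[A] Localization.Away (algebraMap A B f) := IsScalarTower.toAlgHom A B _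
  have hvS : v ≫ W.hom = Spec.map (CommRingCat.ofHom (algebraMap A B)) ≫ t := by
    refine spec_ext hpB (W := S) ?_ ?_
    · rw [← Category.assoc, hv₂, Over.w u₂, ← Category.assoc, ← Spec.map_comp, ← CommRingCat.ofHom_comp,
        ← IsScalarTower.algebraMap_eq]
      rfl
    · rw [← Category.assoc, hv₁, Category.assoc, Over.w u₁, ← Category.assoc (Spec.map _) (Spec.map _),
        ← Spec.map_comp, ← CommRingCat.ofHom_comp, ← IsScalarTower.algebraMap_eq]
      exact Over.w (objMap t ε)
  let vo : obj t B ⟶ W := Over.homMk v hvS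
  let x : (yon S).obj (obj t B) ⟶ Z := (yon S).map vo ≫ w
  have hv₁' : objMap t j₁ ≫ vo = u₁ := by
    have e : objMap t c₁ ≫ vo = objMap t ε ≫ u₁ := Over.OverMorphism.ext hv₁
    have e2 : (e₁.toAlgHom.comp ε) = AlgHom.id A B₁ := AlgHom.ext fun x => e₁.apply_symm_apply x
    rw [show j₁ = e₁.toAlgHom.comp c₁ from rfl, ← objMap_comp, Category.assoc, e, ← Category.assoc, objMap_comp, e2]
    refine Over.OverMorphism.ext ?_
    change Spec.map (𝟙 _) ≫ u₁.left = u₁.left
    rw [Spec.map_id, Category.id_comp]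
  have hv₂' : objMap t j₂ ≫ vo = u₂ := Over.OverMorphism.ext hv₂
  have x₁ : (yon S).map (objMap t j₁) ≫ x = (yon S).map (objMap t ι₁) ≫ s₁ := by
    rw [← Functor.map_comp_assoc, hv₁', sq₁.w]
  have x₂ : (yon S).map (objMap t j₂) ≫ x = (yon S).map (objMap t ι₂) ≫ s₂ := by
    rw [← Functor.map_comp_assoc, hv₂', sq₂.w]
  have hx₁ : ∀ (D : Type u) [CommRing D] [Algebra A D] (g : B →ₐ[A] D) (ρ : Localization.Away f →ₐ[A] D),
      (yon S).map (objMap t g) ≫ x = (yon S).map (objMap t ρ) ≫ s₁ := by
    intro D _ _ g ρ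
    have hg : IsUnit (g (algebraMap A B f)) := by
      rw [g.commutes, ← ρ.commutes]; exact (isUnit_away f).map ρ
    let gl : Localization.Away (algebraMap A B f) →ₐ[A] D :=
      { IsLocalization.Away.lift (S := Localization.Away (algebraMap A B f)) (algebraMap A B f) (g := g.toRingHom)
          hg with
        commutes' := fun a => by
          rw [IsScalarTower.algebraMap_apply A B (Localization.Away (algebraMap A B f))]
          exact (IsLocalization.Away.lift_eq _ hg _).trans (g.commutes a) }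
    have hgj : (gl.comp ε).comp j₁ = g := AlgHom.ext fun b => by
      change gl (e₁.symm (e₁ _)) = g b
      rw [e₁.symm_apply_apply]
      exact IsLocalization.Away.lift_eq _ hg b
    rw [← hgj, ← map_objMap_comp, x₁, map_objMap_comp, away_ext ((gl.comp ε).comp ι₁) ρ]
  have hx₂ : ∀ (D : Type u) [CommRing D] [Algebra A D] (g : B →ₐ[A] D) (ρ : A' →ₐ[A] D),
      (yon S).map (objMap t g) ≫ x = (yon S).map (objMap t ρ) ≫ s₂ := by
    intro D _ _ g ρ
    let g₂ : B₂ →ₐ[A] D := (Algebra.TensorProduct.productMap ρ g).comp (e'.symm.toAlgHom.restrictScalars A)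
    have hgj : g₂.comp j₂ = g := AlgHom.ext fun b => by
      change Algebra.TensorProduct.productMap ρ g (e'.symm (e' _)) = g b
      rw [e'.symm_apply_apply]
      simp
    have hgι : g₂.comp ι₂ = ρ := AlgHom.ext fun a => by
      change Algebra.TensorProduct.productMap ρ g (e'.symm (algebraMap A' B₂ a)) = ρ a
      rw [e'.symm.commutes]
      simp
    rw [← hgj, ← map_objMap_comp, x₂, map_objMap_comp, hgι]
  obtain ⟨s, hsx⟩ := exists_desc t hBs x (proj_agree t h hd x s₁ s₂ hx₁ hx₂)
  refine ⟨s, ?_, ?_⟩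
  · haveI : Etale (objMap t ι₁).left := HasRingHomProperty.Spec_iff.2 hι₁
    haveI : Surjective (objMap t ι₁).left := ⟨hι₁s⟩
    refine eq_of_comp_eq (objMap t ι₁) ?_
    rw [← x₁, ← hsx, map_objMap_comp, map_objMap_comp, Subsingleton.elim (ι₁.comp _) (j₁.comp (Algebra.ofId A B))]
  · haveI : Etale (objMap t ι₂).left := HasRingHomProperty.Spec_iff.2 hι₂
    haveI : Surjective (objMap t ι₂).left := ⟨hι₂s⟩
    refine eq_of_comp_eq (objMap t ι₂) ?_
    rw [← x₂, ← hsx, map_objMap_comp, map_objMap_comp, Subsingleton.elim (ι₂.comp _) (j₂.comp (Algebra.ofId A B))]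

end Groth.Agent.GluePairHom
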