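import Groth.Agent.GluePairHom.Glue

/-!
# Glueing morphisms between algebraic spaces along a glueing pair
-/

set_option autoImplicit false
set_option maxHeartbeats 1000000
set_option backward.isDefEq.respectTransparency false
set_option backward.isDefEq.respectTransparency.types false

universe u

open CategoryTheory CategoryTheory.Limits AlgebraicGeometry TensorProduct AlgSp AlgSpLib

noncomputable section

namespace Groth.Agent.GluePairHom

variable {R : Type u} [CommRing R]


/-- An affine scheme over an affine base is a test object. -/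
theorem exists_obj_iso (V : Over (Spec (CommRingCat.of R))) [IsAffine V.left] :
    ∃ (A : Type u) (_ : CommRing A) (_ : Algebra R A),
      Nonempty (obj (Spec.map (CommRingCat.ofHom (algebraMap R A))) A ≅ V) := by
  obtain ⟨g, hg⟩ := Spec.map_surjective (V.left.isoSpec.inv ≫ V.hom)
  let _ : Algebra R Γ(V.left, ⊤) := g.hom.toAlgebra
  refine ⟨Γ(V.left, ⊤), inferInstance, inferInstance, ⟨Over.isoMk V.left.isoSpec.symm ?_⟩⟩
  change V.left.isoSpec.inv ≫ V.hom = Spec.map (𝟙 _) ≫ Spec.map (CommRingCat.ofHom (algebraMap R Γ(V.left, ⊤)))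
  rw [Spec.map_id, Category.id_comp, ← hg]
  rfl

theorem comp_terminal {T : Over (Spec (CommRingCat.of R))} (x y : (yon (Spec (CommRingCat.of R))).obj T ⟶ (yon (Spec (CommRingCat.of R))).obj (Over.mk (𝟙 (Spec (CommRingCat.of R))))) : x = y := by
  obtain ⟨x', rfl⟩ := (yon (Spec (CommRingCat.of R))).map_surjective x
  obtain ⟨y', rfl⟩ := (yon (Spec (CommRingCat.of R))).map_surjective y
  exact congrArg _ (Over.mkIdTerminal.hom_ext x' y')

/-- A test object over itself. -/
def selfIso {A : Type u} [CommRing A] (t : Spec (CommRingCat.of A) ⟶ Spec (CommRingCat.of R)) :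
    (Over.mk t : Over (Spec (CommRingCat.of R))) ≅ obj t A :=
  Over.isoMk (Iso.refl _) (by
    simp only [Over.mk_hom, Iso.refl_hom, Category.id_comp, Algebra.algebraMap_self, CommRingCat.ofHom_id,
      Spec.map_id])

variable {Y Z P : Sp (Spec (CommRingCat.of R))} {U₀ : Over (Spec (CommRingCat.of R))} {uY : P ⟶ Y} {sY : P ⟶ (yon (Spec (CommRingCat.of R))).obj U₀}
  {πY : Y ⟶ (yon (Spec (CommRingCat.of R))).obj (Over.mk (𝟙 (Spec (CommRingCat.of R))))} {inc : U₀ ⟶ Over.mk (𝟙 (Spec (CommRingCat.of R)))}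

/-- The morphism prescribed on points lying over a corner. -/
def rho (hP : IsPullback uY sY πY ((yon (Spec (CommRingCat.of R))).map inc)) (m : P ⟶ Z) {T : Over (Spec (CommRingCat.of R))}
    (y : (yon (Spec (CommRingCat.of R))).obj T ⟶ Y) (r : T ⟶ U₀) : (yon (Spec (CommRingCat.of R))).obj T ⟶ Z :=
  hP.lift y ((yon (Spec (CommRingCat.of R))).map r) (comp_terminal _ _) ≫ m

theorem map_rho (hP : IsPullback uY sY πY ((yon (Spec (CommRingCat.of R))).map inc)) (m : P ⟶ Z) {T T' : Over (Spec (CommRingCat.of R))} (g : T' ⟶ T)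
    (y : (yon (Spec (CommRingCat.of R))).obj T ⟶ Y) (r : T ⟶ U₀) :
    (yon (Spec (CommRingCat.of R))).map g ≫ rho hP m y r = rho hP m ((yon (Spec (CommRingCat.of R))).map g ≫ y) (g ≫ r) := by
  rw [rho, rho, ← Category.assoc]
  congr 1
  apply hP.hom_ext
  · rw [Category.assoc, hP.lift_fst, hP.lift_fst]
  · rw [Category.assoc, hP.lift_snd, hP.lift_snd, Functor.map_comp]

theorem rho_self (hP : IsPullback uY sY πY ((yon (Spec (CommRingCat.of R))).map inc)) (m : P ⟶ Z) {T : Over (Spec (CommRingCat.of R))}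
    (l : (yon (Spec (CommRingCat.of R))).obj T ⟶ P) (r : T ⟶ U₀) (hr : (yon (Spec (CommRingCat.of R))).map r = l ≫ sY) :
    rho hP m (l ≫ uY) r = l ≫ m := by
  rw [rho]
  congr 1
  apply hP.hom_ext
  · rw [hP.lift_fst]
  · rw [hP.lift_snd, hr]

variable {R' : Type u} [CommRing R'] [Algebra R R'] {f : R}


/-- `s` restricts to the prescribed morphisms on both corners. -/
def Fits {V : Over (Spec (CommRingCat.of R))} (g : (yon (Spec (CommRingCat.of R))).obj V ⟶ Y) (ρU : ∀ {T : Over (Spec (CommRingCat.of R))}, ((yon (Spec (CommRingCat.of R))).obj T ⟶ Y) → (T ⟶ (Over.mk (Spec.map (CommRingCat.ofHom (algebraMap R (Localization.Away f)))) : Over (Spec (CommRingCat.of R)))) → ((yon (Spec (CommRingCat.of R))).obj T ⟶ Z))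
    (ρX : ∀ {T : Over (Spec (CommRingCat.of R))}, ((yon (Spec (CommRingCat.of R))).obj T ⟶ Y) → (T ⟶ (Over.mk (Spec.map (CommRingCat.ofHom (algebraMap R R'))) : Over (Spec (CommRingCat.of R)))) → ((yon (Spec (CommRingCat.of R))).obj T ⟶ Z))
    (s : (yon (Spec (CommRingCat.of R))).obj V ⟶ Z) : Prop :=
  (∀ (T : Over (Spec (CommRingCat.of R))) (e : T ⟶ V) (r : T ⟶ (Over.mk (Spec.map (CommRingCat.ofHom (algebraMap R (Localization.Away f)))) : Over (Spec (CommRingCat.of R)))), (yon (Spec (CommRingCat.of R))).map e ≫ s = ρU ((yon (Spec (CommRingCat.of R))).map e ≫ g) r) ∧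
    ∀ (T : Over (Spec (CommRingCat.of R))) (e : T ⟶ V) (r : T ⟶ (Over.mk (Spec.map (CommRingCat.ofHom (algebraMap R R'))) : Over (Spec (CommRingCat.of R)))), (yon (Spec (CommRingCat.of R))).map e ≫ s = ρX ((yon (Spec (CommRingCat.of R))).map e ≫ g) r

/-- The canonical maps from the corners of a test object to the corners of the base. -/
theorem exists_toU (A : Type u) [CommRing A] [Algebra R A] :
    Nonempty (obj (Spec.map (CommRingCat.ofHom (algebraMap R A))) (Localization.Away (algebraMap R A f)) ⟶ (Over.mk (Spec.map (CommRingCat.ofHom (algebraMap R (Localization.Away f)))) : Over (Spec (CommRingCat.of R)))) := by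
  have hu : IsUnit (algebraMap R (Localization.Away (algebraMap R A f)) f) := by
    rw [IsScalarTower.algebraMap_apply R A (Localization.Away (algebraMap R A f))]
    exact IsLocalization.Away.algebraMap_isUnit _
  refine ⟨Over.homMk (Spec.map (CommRingCat.ofHom (awayHom f hu).toRingHom)) ?_⟩
  change Spec.map _ ≫ Spec.map _ = Spec.map _ ≫ Spec.map _
  rw [← Spec.map_comp, ← Spec.map_comp, ← CommRingCat.ofHom_comp, ← CommRingCat.ofHom_comp,
    ← IsScalarTower.algebraMap_eq R A (Localization.Away (algebraMap R A f))]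
  exact congrArg (fun g => Spec.map (CommRingCat.ofHom g)) (awayHom f hu).comp_algebraMap

attribute [local instance] Algebra.TensorProduct.rightAlgebra in
theorem exists_toX (A : Type u) [CommRing A] [Algebra R A] :
    Nonempty (obj (Spec.map (CommRingCat.ofHom (algebraMap R A))) (R' ⊗[R] A) ⟶ (Over.mk (Spec.map (CommRingCat.ofHom (algebraMap R R'))) : Over (Spec (CommRingCat.of R)))) := by
  refine ⟨Over.homMk (Spec.map (CommRingCat.ofHom
    (Algebra.TensorProduct.includeLeft : R' →ₐ[R] R' ⊗[R] A).toRingHom)) ?_⟩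
  change Spec.map _ ≫ Spec.map _ = Spec.map _ ≫ Spec.map _
  rw [← Spec.map_comp, ← Spec.map_comp, ← CommRingCat.ofHom_comp, ← CommRingCat.ofHom_comp]
  exact congrArg (fun g => Spec.map (CommRingCat.ofHom g))
    ((Algebra.TensorProduct.includeLeft : R' →ₐ[R] R' ⊗[R] A).comp_algebraMap.trans
      (Algebra.TensorProduct.includeRight : A →ₐ[R] R' ⊗[R] A).comp_algebraMap.symm)

theorem mono_toU {T : Over (Spec (CommRingCat.of R))} (r r' : T ⟶ (Over.mk (Spec.map (CommRingCat.ofHom (algebraMap R (Localization.Away f)))) : Over (Spec (CommRingCat.of R)))) : r = r' := by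
  haveI : IsOpenImmersion (Spec.map (CommRingCat.ofHom (algebraMap R (Localization.Away f)))) :=
    IsOpenImmersion.of_isLocalization f
  exact Over.OverMorphism.ext ((cancel_mono (Spec.map (CommRingCat.ofHom (algebraMap R (Localization.Away f))))).1
    ((Over.w r).trans (Over.w r').symm))

/-- A test object over a corner factors through the corner. -/
theorem exists_liftU {A : Type u} [CommRing A] [Algebra R A] {T : Over (Spec (CommRingCat.of R))}
    (e : T ⟶ obj (Spec.map (CommRingCat.ofHom (algebraMap R A))) A) (r : T ⟶ (Over.mk (Spec.map (CommRingCat.ofHom (algebraMap R (Localization.Away f)))) : Over (Spec (CommRingCat.of R)))) :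
    ∃ l : T ⟶ obj (Spec.map (CommRingCat.ofHom (algebraMap R A))) (Localization.Away (algebraMap R A f)),
      l ≫ objMap _ (Algebra.ofId A (Localization.Away (algebraMap R A f))) = e := by
  let fA := algebraMap R A f
  haveI : IsOpenImmersion (Spec.map (CommRingCat.ofHom (algebraMap A (Localization.Away fA)))) :=
    IsOpenImmersion.of_isLocalization fA
  have hw : e.left ≫ Spec.map (CommRingCat.ofHom (algebraMap R A)) =
      r.left ≫ Spec.map (CommRingCat.ofHom (algebraMap R (Localization.Away f))) := by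
    have := (Over.w e).trans (Over.w r).symm
    simpa using this
  have hr : Set.range e.left ⊆ Set.range (Spec.map (CommRingCat.ofHom (algebraMap A (Localization.Away fA)))) := by
    rintro _ ⟨x, rfl⟩
    have h1 : PrimeSpectrum.comap (algebraMap R A) (e.left x) ∈
        (PrimeSpectrum.basicOpen f : Set (PrimeSpectrum R)) := by
      rw [← PrimeSpectrum.localization_away_comap_range (Localization.Away f) f]
      exact ⟨r.left x, (congrArg (fun g => g x) (congrArg (fun g : T.left ⟶ (Spec (CommRingCat.of R)) => (g.base : _)) hw)).symm⟩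
    have h2 : (e.left x) ∈ Set.range (PrimeSpectrum.comap (algebraMap A (Localization.Away fA))) := by
      rw [PrimeSpectrum.localization_away_comap_range (Localization.Away fA) fA]
      exact h1
    exact h2
  refine ⟨Over.homMk (IsOpenImmersion.lift _ e.left hr) ?_, Over.OverMorphism.ext (IsOpenImmersion.lift_fac _ _ hr)⟩
  change _ ≫ Spec.map _ ≫ _ = _
  rw [IsOpenImmersion.lift_fac_assoc, ← Over.w e]
  change _ = e.left ≫ Spec.map (𝟙 _) ≫ _
  erw [Spec.map_id, Category.id_comp]

attribute [local instance] Algebra.TensorProduct.rightAlgebra in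
theorem exists_liftX {A : Type u} [CommRing A] [Algebra R A] {T : Over (Spec (CommRingCat.of R))}
    (e : T ⟶ obj (Spec.map (CommRingCat.ofHom (algebraMap R A))) A) (r : T ⟶ (Over.mk (Spec.map (CommRingCat.ofHom (algebraMap R R'))) : Over (Spec (CommRingCat.of R))))
    (r₀ : obj (Spec.map (CommRingCat.ofHom (algebraMap R A))) (R' ⊗[R] A) ⟶ (Over.mk (Spec.map (CommRingCat.ofHom (algebraMap R R'))) : Over (Spec (CommRingCat.of R))))
    (hr₀ : r₀.left = Spec.map (CommRingCat.ofHom (Algebra.TensorProduct.includeLeft : R' →ₐ[R] R' ⊗[R] A).toRingHom)) :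
    ∃ l : T ⟶ obj (Spec.map (CommRingCat.ofHom (algebraMap R A))) (R' ⊗[R] A),
      l ≫ objMap _ (Algebra.ofId A (R' ⊗[R] A)) = e ∧ l ≫ r₀ = r := by
  have hw : r.left ≫ Spec.map (CommRingCat.ofHom (algebraMap R R')) =
      e.left ≫ Spec.map (CommRingCat.ofHom (algebraMap R A)) := by
    have := (Over.w r).trans (Over.w e).symm
    simpa using this
  have hpb := AlgebraicGeometry.isPullback_SpecMap_of_isPushout _ _ _ _ (CommRingCat.isPushout_tensorProduct R R' A)
  have h1 := hpb.lift_fst r.left e.left hw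
  have h2 := hpb.lift_snd r.left e.left hw
  refine ⟨Over.homMk (hpb.lift r.left e.left hw) ?_, Over.OverMorphism.ext h2, Over.OverMorphism.ext ?_⟩
  · change _ ≫ Spec.map _ ≫ _ = _
    refine (Category.assoc _ _ _).symm.trans ((congrArg (· ≫ _) h2).trans ?_)
    rw [← Over.w e]
    change _ = e.left ≫ Spec.map (𝟙 _) ≫ _
    erw [Spec.map_id, Category.id_comp]
  · rw [Over.comp_left, hr₀]
    exact h1

attribute [local instance] Algebra.TensorProduct.rightAlgebra in
/-- Uniqueness on an affine etale chart of a glueable space. -/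
theorem eq_of_fits (h : EtGlue.IsGlueingPair R R' f) (hd : IsAffineMor (Limits.diag Z))
    (hY : ∀ (A : Type u) [CommRing A] [Algebra R A]
      (g : (yon (Spec (CommRingCat.of R))).obj (Over.mk (Spec.map (CommRingCat.ofHom (algebraMap R A))) : Over (Spec (CommRingCat.of R))) ⟶ Y),
      RepWith @Etale g → EtGlue.IsGlueable R R' f A)
    {V : Over (Spec (CommRingCat.of R))} [IsAffine V.left] (g : (yon (Spec (CommRingCat.of R))).obj V ⟶ Y) (hg : RepWith @Etale g)
    {s s' : (yon (Spec (CommRingCat.of R))).obj V ⟶ Z}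
    (hU : ∀ (T : Over (Spec (CommRingCat.of R))) (e : T ⟶ V), (T ⟶ (Over.mk (Spec.map (CommRingCat.ofHom (algebraMap R (Localization.Away f)))) : Over (Spec (CommRingCat.of R)))) → (yon (Spec (CommRingCat.of R))).map e ≫ s = (yon (Spec (CommRingCat.of R))).map e ≫ s')
    (hX : ∀ (T : Over (Spec (CommRingCat.of R))) (e : T ⟶ V), (T ⟶ (Over.mk (Spec.map (CommRingCat.ofHom (algebraMap R R'))) : Over (Spec (CommRingCat.of R)))) → (yon (Spec (CommRingCat.of R))).map e ≫ s = (yon (Spec (CommRingCat.of R))).map e ≫ s') : s = s' := by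
  obtain ⟨A, _, _, ⟨ε⟩⟩ := exists_obj_iso V
  let t := Spec.map (CommRingCat.ofHom (algebraMap R A))
  let η₀ := selfIso t
  have hA := hY A ((yon (Spec (CommRingCat.of R))).map (η₀ ≪≫ ε).hom ≫ g)
    (((RepWith @Etale).cancel_left_of_respectsIso _ _).2 hg)
  have hp := glueingPair_tensor h A hA
  obtain ⟨r₁⟩ := exists_toU (R := R) (f := f) A
  obtain ⟨r₂⟩ := exists_toX (R := R) (R' := R') A
  rw [← cancel_epi ((yon (Spec (CommRingCat.of R))).map ε.hom)]
  refine hom_ext t hd hp ?_ ?_
  · rw [← Functor.map_comp_assoc, ← Functor.map_comp_assoc]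
    exact hU _ _ r₁
  · rw [← Functor.map_comp_assoc, ← Functor.map_comp_assoc]
    exact hX _ _ r₂

attribute [local instance] Algebra.TensorProduct.rightAlgebra in
/-- Existence on an affine etale chart of a glueable space. -/
theorem exists_fits (h : EtGlue.IsGlueingPair R R' f) (hZ : IsAlgSpace Z) (hd : IsAffineMor (Limits.diag Z))
    (hY : ∀ (A : Type u) [CommRing A] [Algebra R A]
      (g : (yon (Spec (CommRingCat.of R))).obj (Over.mk (Spec.map (CommRingCat.ofHom (algebraMap R A))) : Over (Spec (CommRingCat.of R))) ⟶ Y),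
      RepWith @Etale g → EtGlue.IsGlueable R R' f A)
    {V : Over (Spec (CommRingCat.of R))} [IsAffine V.left] (g : (yon (Spec (CommRingCat.of R))).obj V ⟶ Y) (hg : RepWith @Etale g)
    (ρU : ∀ {T : Over (Spec (CommRingCat.of R))}, ((yon (Spec (CommRingCat.of R))).obj T ⟶ Y) → (T ⟶ (Over.mk (Spec.map (CommRingCat.ofHom (algebraMap R (Localization.Away f)))) : Over (Spec (CommRingCat.of R)))) → ((yon (Spec (CommRingCat.of R))).obj T ⟶ Z))
    (ρX : ∀ {T : Over (Spec (CommRingCat.of R))}, ((yon (Spec (CommRingCat.of R))).obj T ⟶ Y) → (T ⟶ (Over.mk (Spec.map (CommRingCat.ofHom (algebraMap R R'))) : Over (Spec (CommRingCat.of R)))) → ((yon (Spec (CommRingCat.of R))).obj T ⟶ Z))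
    (natU : ∀ {T T' : Over (Spec (CommRingCat.of R))} (a : T' ⟶ T) y r, (yon (Spec (CommRingCat.of R))).map a ≫ ρU y r = ρU ((yon (Spec (CommRingCat.of R))).map a ≫ y) (a ≫ r))
    (natX : ∀ {T T' : Over (Spec (CommRingCat.of R))} (a : T' ⟶ T) y r, (yon (Spec (CommRingCat.of R))).map a ≫ ρX y r = ρX ((yon (Spec (CommRingCat.of R))).map a ≫ y) (a ≫ r))
    (agree : ∀ {T : Over (Spec (CommRingCat.of R))} (y : (yon (Spec (CommRingCat.of R))).obj T ⟶ Y) r r', ρU y r = ρX y r') :
    ∃ s, Fits g ρU ρX s := by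
  obtain ⟨A, _, _, ⟨ε⟩⟩ := exists_obj_iso V
  let t := Spec.map (CommRingCat.ofHom (algebraMap R A))
  let η₀ := selfIso t
  have hA := hY A ((yon (Spec (CommRingCat.of R))).map (η₀ ≪≫ ε).hom ≫ g)
    (((RepWith @Etale).cancel_left_of_respectsIso _ _).2 hg)
  have hp := glueingPair_tensor h A hA
  obtain ⟨r₁⟩ := exists_toU (R := R) (f := f) A
  let r₂ : obj t (R' ⊗[R] A) ⟶ (Over.mk (Spec.map (CommRingCat.ofHom (algebraMap R R'))) : Over (Spec (CommRingCat.of R))) := Over.homMk (Spec.map (CommRingCat.ofHom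
    (Algebra.TensorProduct.includeLeft : R' →ₐ[R] R' ⊗[R] A).toRingHom)) (by
      change Spec.map _ ≫ Spec.map _ = Spec.map _ ≫ Spec.map _
      rw [← Spec.map_comp, ← Spec.map_comp, ← CommRingCat.ofHom_comp, ← CommRingCat.ofHom_comp]
      exact congrArg (fun g => Spec.map (CommRingCat.ofHom g))
        ((Algebra.TensorProduct.includeLeft : R' →ₐ[R] R' ⊗[R] A).comp_algebraMap.trans
          (Algebra.TensorProduct.includeRight : A →ₐ[R] R' ⊗[R] A).comp_algebraMap.symm))
  let c₁ := objMap t (Algebra.ofId A (Localization.Away (algebraMap R A f))) ≫ ε.hom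
  let c₂ := objMap t (Algebra.ofId A (R' ⊗[R] A)) ≫ ε.hom
  let k : Localization.Away (algebraMap R A f) →ₐ[A]
      Localization.Away (algebraMap A (R' ⊗[R] A) (algebraMap R A f)) :=
    awayHom _ (by
      rw [IsScalarTower.algebraMap_apply A (R' ⊗[R] A)
        (Localization.Away (algebraMap A (R' ⊗[R] A) (algebraMap R A f)))]
      exact IsLocalization.Away.algebraMap_isUnit _)
  obtain ⟨s, hs₁, hs₂⟩ := exists_glue t hp hZ hd (ρU ((yon (Spec (CommRingCat.of R))).map c₁ ≫ g) r₁) (ρX ((yon (Spec (CommRingCat.of R))).map c₂ ≫ g) r₂) k (by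
    rw [natU, natX, ← Functor.map_comp_assoc, ← Functor.map_comp_assoc, ← Category.assoc, ← Category.assoc,
      objMap_comp, objMap_comp, Subsingleton.elim (k.comp (Algebra.ofId A _))
        ((IsScalarTower.toAlgHom A _ _).comp (Algebra.ofId A (R' ⊗[R] A)))]
    exact agree _ _ _)
  refine ⟨(yon (Spec (CommRingCat.of R))).map ε.inv ≫ s, fun T e r => ?_, fun T e r => ?_⟩
  · obtain ⟨l, hl⟩ := exists_liftU (e ≫ ε.inv) r
    have hl' : l ≫ c₁ = e := by
      simp only [c₁, ← Category.assoc]
      rw [hl, Category.assoc, ε.inv_hom_id, Category.comp_id]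
    rw [← Functor.map_comp_assoc, ← hl, Functor.map_comp, Category.assoc, hs₁, natU, ← Functor.map_comp_assoc, hl',
      mono_toU (l ≫ r₁) r]
  · obtain ⟨l, hl, hlr⟩ := exists_liftX (e ≫ ε.inv) r r₂ rfl
    have hl' : l ≫ c₂ = e := by
      simp only [c₂, ← Category.assoc]
      rw [hl, Category.assoc, ε.inv_hom_id, Category.comp_id]
    rw [← Functor.map_comp_assoc, ← hl, Functor.map_comp, Category.assoc, hs₂, natX, ← Functor.map_comp_assoc, hl',
      hlr]

/-- Morphisms prescribed over both corners of a glueing pair glue. -/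
theorem existsUnique_glue (h : EtGlue.IsGlueingPair R R' f) (hYs : IsAlgSpace Y) (hZ : IsAlgSpace Z)
    (hd : IsAffineMor (Limits.diag Z))
    (hY : ∀ (A : Type u) [CommRing A] [Algebra R A]
      (g : (yon (Spec (CommRingCat.of R))).obj (Over.mk (Spec.map (CommRingCat.ofHom (algebraMap R A))) : Over (Spec (CommRingCat.of R))) ⟶ Y),
      RepWith @Etale g → EtGlue.IsGlueable R R' f A)
    (ρU : ∀ {T : Over (Spec (CommRingCat.of R))}, ((yon (Spec (CommRingCat.of R))).obj T ⟶ Y) → (T ⟶ (Over.mk (Spec.map (CommRingCat.ofHom (algebraMap R (Localization.Away f)))) : Over (Spec (CommRingCat.of R)))) → ((yon (Spec (CommRingCat.of R))).obj T ⟶ Z))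
    (ρX : ∀ {T : Over (Spec (CommRingCat.of R))}, ((yon (Spec (CommRingCat.of R))).obj T ⟶ Y) → (T ⟶ (Over.mk (Spec.map (CommRingCat.ofHom (algebraMap R R'))) : Over (Spec (CommRingCat.of R)))) → ((yon (Spec (CommRingCat.of R))).obj T ⟶ Z))
    (natU : ∀ {T T' : Over (Spec (CommRingCat.of R))} (a : T' ⟶ T) y r, (yon (Spec (CommRingCat.of R))).map a ≫ ρU y r = ρU ((yon (Spec (CommRingCat.of R))).map a ≫ y) (a ≫ r))
    (natX : ∀ {T T' : Over (Spec (CommRingCat.of R))} (a : T' ⟶ T) y r, (yon (Spec (CommRingCat.of R))).map a ≫ ρX y r = ρX ((yon (Spec (CommRingCat.of R))).map a ≫ y) (a ≫ r))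
    (agree : ∀ {T : Over (Spec (CommRingCat.of R))} (y : (yon (Spec (CommRingCat.of R))).obj T ⟶ Y) r r', ρU y r = ρX y r') :
    ∃! φ : Y ⟶ Z, (∀ (T : Over (Spec (CommRingCat.of R))) (y : (yon (Spec (CommRingCat.of R))).obj T ⟶ Y) r, y ≫ φ = ρU y r) ∧
      ∀ (T : Over (Spec (CommRingCat.of R))) (y : (yon (Spec (CommRingCat.of R))).obj T ⟶ Y) r, y ≫ φ = ρX y r := by
  obtain ⟨U, a, ha, has⟩ := hYs.atlas
  choose O hO hmem using fun x : U.left => exists_isAffineOpen_mem_and_subset (U := ⊤) (x := x) trivial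
  let V : ↥U.left → Over (Spec (CommRingCat.of R)) := fun x => Over.mk ((O x).ι ≫ U.hom)
  let j : ∀ x, V x ⟶ U := fun x => Over.homMk (O x).ι rfl
  haveI hVj : ∀ x, IsAffine (V x).left := fun x => hO x
  haveI hji : ∀ x, IsOpenImmersion (j x).left := fun x => inferInstanceAs (IsOpenImmersion (O x).ι)
  have hg : ∀ x, RepWith @Etale ((yon (Spec (CommRingCat.of R))).map (j x) ≫ a) := fun x =>
    repWith_comp ((repWith_yon_map_iff (P := (@Etale : MorphismProperty Scheme.{u})) (j x)).2 inferInstance) ha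
  choose s hs using fun x => exists_fits h hZ hd hY ((yon (Spec (CommRingCat.of R))).map (j x) ≫ a) (hg x) ρU ρX natU natX agree
  have overlap : ∀ x y (T : Over (Spec (CommRingCat.of R))) (gi : T ⟶ V x) (gj : T ⟶ V y),
      (yon (Spec (CommRingCat.of R))).map gi ≫ (yon (Spec (CommRingCat.of R))).map (j x) ≫ a = (yon (Spec (CommRingCat.of R))).map gj ≫ (yon (Spec (CommRingCat.of R))).map (j y) ≫ a →
      (yon (Spec (CommRingCat.of R))).map gi ≫ s x = (yon (Spec (CommRingCat.of R))).map gj ≫ s y := by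
    intro x y T gi gj e
    obtain ⟨Q, p, q, sq⟩ := exists_isPullback_yon ((yon (Spec (CommRingCat.of R))).map (j x) ≫ a) ((yon (Spec (CommRingCat.of R))).map (j y) ≫ a) (hg x).rep
    have hpq : (yon (Spec (CommRingCat.of R))).map p ≫ s x = (yon (Spec (CommRingCat.of R))).map q ≫ s y := by
      haveI : Etale q.left := etale_left (repWith_of_isPullback sq (hg x))
      choose Oq hOq hmq using fun z : Q.left => exists_isAffineOpen_mem_and_subset (U := ⊤) (x := z) trivial
      let o : ∀ z, (Over.mk ((Oq z).ι ≫ Q.hom) : Over (Spec (CommRingCat.of R))) ⟶ Q := fun z => Over.homMk (Oq z).ι rfl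
      haveI : ∀ z, IsOpenImmersion (o z).left := fun z => inferInstanceAs (IsOpenImmersion (Oq z).ι)
      refine hom_ext_of_cover o (fun z => inferInstance) (fun z => inferInstance)
        (fun z => ⟨z, ⟨z, (hmq z).1⟩, rfl⟩) fun z => ?_
      haveI : IsAffine (Over.mk ((Oq z).ι ≫ Q.hom)).left := hOq z
      refine eq_of_fits h hd hY (((yon (Spec (CommRingCat.of R))).map (o z ≫ q)) ≫ (yon (Spec (CommRingCat.of R))).map (j y) ≫ a)
        (repWith_comp ((repWith_yon_map_iff (P := (@Etale : MorphismProperty Scheme.{u})) (o z ≫ q)).2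
          (show Etale ((o z).left ≫ q.left) from inferInstance)) (hg y)) (fun T e r => ?_) fun T e r => ?_
      · simp only [← Functor.map_comp_assoc]
        rw [(hs x).1 _ _ r, (hs y).1 _ _ r]
        congr 1
        simp only [Functor.map_comp, Category.assoc]
        rw [sq.w]
      · simp only [← Functor.map_comp_assoc]
        rw [(hs x).2 _ _ r, (hs y).2 _ _ r]
        congr 1
        simp only [Functor.map_comp, Category.assoc]
        rw [sq.w]
    obtain ⟨l, hl⟩ := (yon (Spec (CommRingCat.of R))).map_surjective (sq.lift ((yon (Spec (CommRingCat.of R))).map gi) ((yon (Spec (CommRingCat.of R))).map gj) e)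
    rw [show gi = l ≫ p from (yon (Spec (CommRingCat.of R))).map_injective (by rw [Functor.map_comp, hl, sq.lift_fst]),
      show gj = l ≫ q from (yon (Spec (CommRingCat.of R))).map_injective (by rw [Functor.map_comp, hl, sq.lift_snd]),
      Functor.map_comp, Functor.map_comp, Category.assoc, Category.assoc, hpq]
  obtain ⟨sU, hsU⟩ := exists_amalgamation j (fun x => inferInstance) (fun x => inferInstance)
    (fun x => ⟨x, ⟨x, (hmem x).1⟩, rfl⟩) s
    (fun x y T gi gj e => overlap x y T gi gj (by rw [← Functor.map_comp_assoc, ← Functor.map_comp_assoc, e]))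
  have local_ : ∀ (T : Over (Spec (CommRingCat.of R))) (e : T ⟶ U) (G : Sp (Spec (CommRingCat.of R))) (c c' : (yon (Spec (CommRingCat.of R))).obj T ⟶ G),
      (∀ (T' : Over (Spec (CommRingCat.of R))) (o : T' ⟶ T) (x : U.left) (e' : T' ⟶ V x), e' ≫ j x = o ≫ e →
        (yon (Spec (CommRingCat.of R))).map o ≫ c = (yon (Spec (CommRingCat.of R))).map o ≫ c') → c = c' := by
    intro T e G c c' hc
    let o : ∀ x : U.left, (Over.mk ((e.left ⁻¹ᵁ O x).ι ≫ T.hom) : Over (Spec (CommRingCat.of R))) ⟶ T :=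
      fun x => Over.homMk (e.left ⁻¹ᵁ O x).ι rfl
    haveI : ∀ x, IsOpenImmersion (o x).left := fun x => inferInstanceAs (IsOpenImmersion (e.left ⁻¹ᵁ O x).ι)
    refine hom_ext_of_cover o (fun x => inferInstance) (fun x => inferInstance)
      (fun z => ⟨e.left z, ⟨z, (hmem (e.left z)).1⟩, rfl⟩) fun x => hc _ _ x
        (Over.homMk (e.left ∣_ O x) ?_) (Over.OverMorphism.ext (morphismRestrict_ι e.left (O x)))
    change (e.left ∣_ O x) ≫ (O x).ι ≫ U.hom = (e.left ⁻¹ᵁ O x).ι ≫ T.hom
    rw [← Category.assoc, morphismRestrict_ι, Category.assoc, Over.w]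
  obtain ⟨φ, hφ⟩ := exists_desc_of_atlas ha has sU fun T g g' e => by
    refine local_ T g _ _ _ fun T' o x e' he' => ?_
    refine local_ T' (o ≫ g') _ _ _ fun T'' o' y e'' he'' => ?_
    simp only [← Functor.map_comp_assoc]
    rw [← he', ← he'', ← Category.assoc, Functor.map_comp, Category.assoc, hsU,
      Functor.map_comp _ e'' (j y), Category.assoc ((yon (Spec (CommRingCat.of R))).map e''), hsU]
    refine overlap x y _ _ _ ?_
    simp only [← Functor.map_comp_assoc, Category.assoc]
    rw [he', he'']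
    simp only [Functor.map_comp, Category.assoc]
    rw [e]
  have key : ∀ (T : Over (Spec (CommRingCat.of R))) (y : (yon (Spec (CommRingCat.of R))).obj T ⟶ Y) (c c' : (yon (Spec (CommRingCat.of R))).obj T ⟶ Z),
      (∀ (T' : Over (Spec (CommRingCat.of R))) (o : T' ⟶ T) (x : U.left) (e : T' ⟶ V x),
        (yon (Spec (CommRingCat.of R))).map o ≫ y = (yon (Spec (CommRingCat.of R))).map e ≫ (yon (Spec (CommRingCat.of R))).map (j x) ≫ a →
        (yon (Spec (CommRingCat.of R))).map o ≫ c = (yon (Spec (CommRingCat.of R))).map o ≫ c') → c = c' := by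
    intro T y c c' hc
    obtain ⟨W, p, q, sq⟩ := exists_isPullback_yon a y ha.rep
    haveI : Etale q.left := etale_left (repWith_of_isPullback sq ha)
    haveI : Surjective q.left := surjective_left (repWith_of_isPullback sq has)
    refine eq_of_comp_eq q (local_ W p _ _ _ fun T' o x e he => ?_)
    simp only [← Functor.map_comp_assoc]
    refine hc T' (o ≫ q) x e ?_
    rw [← Functor.map_comp_assoc, he, Functor.map_comp, Category.assoc, ← sq.w, Functor.map_comp, Category.assoc]
  refine ⟨φ, ⟨fun T y r => key T y _ _ fun T' o x e he => ?_, fun T y r => key T y _ _ fun T' o x e he => ?_⟩,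
    fun φ' hφ' => hom_ext_of_atlas ha has ?_⟩
  · rw [natU, ← Category.assoc, he, Category.assoc, Category.assoc, hφ, hsU, (hs x).1 _ e (o ≫ r)]
  · rw [natX, ← Category.assoc, he, Category.assoc, Category.assoc, hφ, hsU, (hs x).2 _ e (o ≫ r)]
  · rw [hφ]
    refine hom_ext_of_cover j (fun x => inferInstance) (fun x => inferInstance)
      (fun x => ⟨x, ⟨x, (hmem x).1⟩, rfl⟩) fun x => ?_
    rw [hsU]
    refine eq_of_fits h hd hY _ (hg x) (fun T e r => ?_) fun T e r => ?_
    · rw [(hs x).1 _ e r]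
      beta_reduce
      rw [← hφ'.1 _ _ r]
      simp only [Category.assoc]
    · rw [(hs x).2 _ e r]
      beta_reduce
      rw [← hφ'.2 _ _ r]
      simp only [Category.assoc]

end Groth.Agent.GluePairHom
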