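import Groth.Agent.GluePairHom.Ring
import Groth.Agent.AlgSpLib.Descend
import Groth.Agent.AlgSpLib.MorPack
import Groth.Agent.AlgSpLib.SepCrit
import Groth.Agent.AlgSpLib.Sheaf

/-!
# Affine test objects and uniqueness of morphisms out of a glueing pair
-/

set_option autoImplicit false
set_option backward.isDefEq.respectTransparency false
set_option backward.isDefEq.respectTransparency.types false

universe u

open CategoryTheory CategoryTheory.Limits AlgebraicGeometry TensorProduct AlgSp AlgSpLib

noncomputable section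

namespace Groth.Agent.GluePairHom

variable {S : Scheme.{u}} {A : Type u} [CommRing A] (t : Spec (CommRingCat.of A) ⟶ S)

/-- The spectrum of an `A`-algebra as an object over `S`. -/
abbrev obj (B : Type u) [CommRing B] [Algebra A B] : Over S :=
  Over.mk (Spec.map (CommRingCat.ofHom (algebraMap A B)) ≫ t)

/-- The map of test objects induced by a map of `A`-algebras. -/
abbrev objMap {B D : Type u} [CommRing B] [Algebra A B] [CommRing D] [Algebra A D] (φ : B →ₐ[A] D) :
    obj t D ⟶ obj t B :=
  Over.homMk (Spec.map (CommRingCat.ofHom φ.toRingHom)) (by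
    change _ ≫ Spec.map _ ≫ t = Spec.map _ ≫ t
    rw [← Spec.map_comp_assoc, ← CommRingCat.ofHom_comp]
    exact congrArg (fun g => Spec.map (CommRingCat.ofHom g) ≫ t) (RingHom.ext φ.commutes))

theorem objMap_comp {B D E : Type u} [CommRing B] [Algebra A B] [CommRing D] [Algebra A D] [CommRing E]
    [Algebra A E] (φ : B →ₐ[A] D) (ψ : D →ₐ[A] E) : objMap t ψ ≫ objMap t φ = objMap t (ψ.comp φ) :=
  Over.OverMorphism.ext (by
    change Spec.map _ ≫ Spec.map _ = Spec.map _
    rw [← Spec.map_comp, ← CommRingCat.ofHom_comp]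
    rfl)

theorem map_objMap_comp {F : Sp S} {B D E : Type u} [CommRing B] [Algebra A B] [CommRing D] [Algebra A D]
    [CommRing E] [Algebra A E] (φ : B →ₐ[A] D) (ψ : D →ₐ[A] E) (g : (yon S).obj (obj t B) ⟶ F) :
    (yon S).map (objMap t ψ) ≫ (yon S).map (objMap t φ) ≫ g = (yon S).map (objMap t (ψ.comp φ)) ≫ g := by
  rw [← Functor.map_comp_assoc, objMap_comp]

theorem objMap_inj {B D : Type u} [CommRing B] [Algebra A B] [CommRing D] [Algebra A D]
    {φ ψ : B →ₐ[A] D} (h : objMap t φ = objMap t ψ) : φ = ψ := by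
  have h' := congrArg CommaMorphism.left h
  have := congrArg CommRingCat.Hom.hom (Spec.map_injective h')
  exact AlgHom.ext fun x => RingHom.congr_fun this x

/-- A morphism of test objects over an algebra comes from a map of algebras. -/
theorem exists_objMap {B0 B D : Type u} [CommRing B0] [Algebra A B0] [CommRing B] [Algebra A B] [CommRing D]
    [Algebra A D] (ι : B0 →ₐ[A] B) (φ₀ : B0 →ₐ[A] D) (l : obj t D ⟶ obj t B)
    (hl : l ≫ objMap t ι = objMap t φ₀) : ∃ φ : B →ₐ[A] D, φ.comp ι = φ₀ ∧ objMap t φ = l := by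
  obtain ⟨g, hg⟩ := Spec.map_surjective (l.left : Spec (CommRingCat.of D) ⟶ Spec (CommRingCat.of B))
  have h2 : Spec.map g ≫ Spec.map (CommRingCat.ofHom ι.toRingHom) = Spec.map (CommRingCat.ofHom φ₀.toRingHom) := by
    rw [hg]; exact congrArg CommaMorphism.left hl
  rw [← Spec.map_comp] at h2
  have h3 : g.hom.comp ι.toRingHom = φ₀.toRingHom := congrArg CommRingCat.Hom.hom (Spec.map_injective h2)
  let φ : B →ₐ[A] D :=
    { g.hom with
      commutes' := fun a => by
        have h4 := RingHom.congr_fun h3 (algebraMap A B0 a)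
        simpa using h4 }
  exact ⟨φ, AlgHom.ext fun x => RingHom.congr_fun h3 x, Over.OverMorphism.ext hg⟩

/-- The universal property of a representing algebra. -/
theorem existsUnique_algHom {F : Sp S} {W : Over S} {B0 B : Type u} [CommRing B0] [Algebra A B0] [CommRing B]
    [Algebra A B] {ι : B0 →ₐ[A] B} {fst : (yon S).obj (obj t B) ⟶ (yon S).obj W} {w : (yon S).obj W ⟶ F}
    {s : (yon S).obj (obj t B0) ⟶ F} (sq : IsPullback fst ((yon S).map (objMap t ι)) w s)
    {D : Type u} [CommRing D] [Algebra A D] (φ₀ : B0 →ₐ[A] D) (z : (yon S).obj (obj t D) ⟶ (yon S).obj W)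
    (e : z ≫ w = (yon S).map (objMap t φ₀) ≫ s) :
    ∃! φ : B →ₐ[A] D, φ.comp ι = φ₀ ∧ (yon S).map (objMap t φ) ≫ fst = z := by
  obtain ⟨l, hl⟩ := (yon S).map_surjective (sq.lift z ((yon S).map (objMap t φ₀)) e)
  obtain ⟨φ, hφ, rfl⟩ := exists_objMap t ι φ₀ l ((yon S).map_injective (by
    rw [Functor.map_comp, hl, sq.lift_snd]))
  refine ⟨φ, ⟨hφ, by rw [hl, sq.lift_fst]⟩, fun ψ hψ => ?_⟩
  refine objMap_inj t ((yon S).map_injective (sq.hom_ext ?_ ?_))
  · rw [hψ.2, hl, sq.lift_fst]
  · rw [← Functor.map_comp, ← Functor.map_comp, objMap_comp, objMap_comp, hψ.1, hφ]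

/-- An affine scheme over a test object is a test object. -/
theorem exists_algebra {F : Sp S} {W P : Over S} [IsAffine P.left] {B0 : Type u} [CommRing B0] [Algebra A B0]
    {q : P ⟶ obj t B0} {fst : (yon S).obj P ⟶ (yon S).obj W} {w : (yon S).obj W ⟶ F}
    {s : (yon S).obj (obj t B0) ⟶ F} (sq : IsPullback fst ((yon S).map q) w s) :
    ∃ (B : Type u) (_ : CommRing B) (_ : Algebra A B) (ι : B0 →ₐ[A] B)
      (fst' : (yon S).obj (obj t B) ⟶ (yon S).obj W), IsPullback fst' ((yon S).map (objMap t ι)) w s := by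
  obtain ⟨g, hg⟩ := Spec.map_surjective (P.left.isoSpec.inv ≫ q.left)
  let _ : Algebra A Γ(P.left, ⊤) := (g.hom.comp (algebraMap A B0)).toAlgebra
  let ι : B0 →ₐ[A] Γ(P.left, ⊤) := { g.hom with commutes' := fun _ => rfl }
  have hι : CommRingCat.ofHom ι.toRingHom = g := rfl
  let e : obj t Γ(P.left, ⊤) ≅ P := Over.isoMk P.left.isoSpec.symm (by
    change P.left.isoSpec.inv ≫ P.hom = Spec.map _ ≫ t
    rw [← Over.w q]
    change P.left.isoSpec.inv ≫ q.left ≫ Spec.map _ ≫ t = _
    rw [← Category.assoc, ← hg, ← Spec.map_comp_assoc]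
    rfl)
  refine ⟨Γ(P.left, ⊤), inferInstance, inferInstance, ι, (yon S).map e.hom ≫ fst, ?_⟩
  have he : e.hom ≫ q = objMap t ι := Over.OverMorphism.ext (by
    change P.left.isoSpec.inv ≫ q.left = Spec.map (CommRingCat.ofHom ι.toRingHom)
    rw [hι, hg])
  refine IsPullback.of_iso sq ((yon S).mapIso e).symm (Iso.refl _) (Iso.refl _) (Iso.refl _) ?_ ?_ ?_ ?_
  · simp
  · simp only [Iso.symm_hom, Functor.mapIso_inv, Iso.refl_hom, Category.comp_id]
    rw [← he, Functor.map_comp, ← Functor.map_comp_assoc, e.inv_hom_id, CategoryTheory.Functor.map_id,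
      Category.id_comp]
  · simp
  · simp

/-- Morphisms out of a glueing pair into a space with affine diagonal are determined by the corners. -/
theorem hom_ext {Z : Sp S} (hd : IsAffineMor (Limits.diag Z)) {C C' : Type u} [CommRing C] [CommRing C']
    [Algebra C C'] [Algebra A C] [Algebra A C'] [IsScalarTower A C C'] {g : C}
    (h : EtGlue.IsGlueingPair C C' g) {s s' : (yon S).obj (obj t C) ⟶ Z}
    (h₁ : (yon S).map (objMap t (IsScalarTower.toAlgHom A C (Localization.Away g))) ≫ s =
      (yon S).map (objMap t (IsScalarTower.toAlgHom A C (Localization.Away g))) ≫ s')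
    (h' : (yon S).map (objMap t (IsScalarTower.toAlgHom A C C')) ≫ s =
      (yon S).map (objMap t (IsScalarTower.toAlgHom A C C')) ≫ s') : s = s' := by
  obtain ⟨W, i, fst, sq, hW⟩ := hd (Z := obj t C) (inferInstanceAs (IsAffine (Spec (CommRingCat.of C))))
    (prod.lift s s')
  have e1 : fst = (yon S).map i ≫ s := by
    have := congrArg (· ≫ prod.fst) sq.w
    simpa [Limits.diag] using this
  have e2 : fst = (yon S).map i ≫ s' := by
    have := congrArg (· ≫ prod.snd) sq.w
    simpa [Limits.diag] using this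
  have sec : ∀ (T : Over S) (c : T ⟶ obj t C), (yon S).map c ≫ s = (yon S).map c ≫ s' →
      ∃ σ : T ⟶ W, σ ≫ i = c := fun T c hc => by
    obtain ⟨σ, hσ⟩ := (yon S).map_surjective (sq.lift ((yon S).map c ≫ s) ((yon S).map c) (by
      apply Limits.prod.hom_ext <;> simp [Limits.diag, hc]))
    exact ⟨σ, (yon S).map_injective (by rw [Functor.map_comp, hσ, sq.lift_snd])⟩
  have mono : ∀ {T : Over S} (a b : T ⟶ W), a ≫ i = b ≫ i → a = b := fun a b hab =>
    (yon S).map_injective (sq.hom_ext (by rw [e1, ← Functor.map_comp_assoc, ← Functor.map_comp_assoc, hab])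
      (by rw [← Functor.map_comp, ← Functor.map_comp, hab]))
  obtain ⟨σ₁, hσ₁⟩ := sec _ _ h₁
  obtain ⟨σ', hσ'⟩ := sec _ _ h'
  let L := Localization.Away (algebraMap C C' g)
  let k : Localization.Away g →ₐ[A] L :=
    { cornerMap C C' g with
      commutes' := fun a => by
        have := RingHom.congr_fun (cornerMap_comp (R := C) (R' := C') (f := g)) (algebraMap A C a)
        simpa [← IsScalarTower.algebraMap_apply] using this }
  have hkk : (IsScalarTower.toAlgHom A C' L).comp (IsScalarTower.toAlgHom A C C') =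
      k.comp (IsScalarTower.toAlgHom A C (Localization.Away g)) :=
    AlgHom.ext fun a => (RingHom.congr_fun (cornerMap_comp (R := C) (R' := C') (f := g)) a).symm
  have agree : objMap t (IsScalarTower.toAlgHom A C' L) ≫ σ' = objMap t k ≫ σ₁ := mono _ _ (by
    rw [Category.assoc, Category.assoc, hσ₁, hσ', objMap_comp, objMap_comp, hkk])
  obtain ⟨σ, hσl', hσl₁⟩ := exists_spec_hom h (W := W.left) σ'.left σ₁.left (congrArg CommaMorphism.left agree)
  have hid : σ ≫ i.left = 𝟙 (Spec (CommRingCat.of C)) := by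
    refine spec_ext h (W := Spec (CommRingCat.of C)) ?_ ?_
    · rw [← Category.assoc, hσl', Category.comp_id]; exact congrArg CommaMorphism.left hσ'
    · rw [← Category.assoc, hσl₁, Category.comp_id]; exact congrArg CommaMorphism.left hσ₁
  let σo : obj t C ⟶ W := Over.homMk σ (by
    rw [← Over.w i, ← Category.assoc]
    exact (congrArg (· ≫ _) hid).trans (Category.id_comp _))
  have hσo : σo ≫ i = 𝟙 _ := Over.OverMorphism.ext hid
  have key : (yon S).map σo ≫ (yon S).map i = 𝟙 _ := by
    rw [← Functor.map_comp, hσo, CategoryTheory.Functor.map_id]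
  calc s = ((yon S).map σo ≫ (yon S).map i) ≫ s := by rw [key, Category.id_comp]
    _ = ((yon S).map σo ≫ (yon S).map i) ≫ s' := by rw [Category.assoc, ← e1, e2, Category.assoc]
    _ = s' := by rw [key, Category.id_comp]

end Groth.Agent.GluePairHom
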