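import Mathlib
import Groth.Agent.GlueAlgLib.Basic
import Groth.Agent.S2005

/-!
# Morphisms out of the spectrum of a glueing pair

For a glueing pair `(R → R', f)`, morphisms from `Spec R` to an affine scheme are compatible pairs of
morphisms from `Spec R'` and `Spec R_f`; flat modules are glueable.
-/

set_option autoImplicit false

universe u

open TensorProduct AlgebraicGeometry CategoryTheory

noncomputable section

namespace Groth.Agent.GluePairHom

variable {R R' : Type u} [CommRing R] [CommRing R'] [Algebra R R'] {f : R}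

/-- Flat modules are glueable. -/
theorem isGlueable_of_flat (h : EtGlue.IsGlueingPair R R' f) (M : Type u) [AddCommGroup M] [Module R M]
    [Module.Flat R M] : EtGlue.IsGlueable R R' f M := by
  refine ((Groth.Agent.S2005.result R R' f h.1 M).2 h).2 fun m ⟨n, hn⟩ hm => ?_
  let p : R →ₗ[R] R' × Localization.Away f :=
    (Algebra.linearMap R R').prod (Algebra.linearMap R (Localization.Away f))
  have hp : Function.Injective p := h.2.1
  have h2 : p.rTensor M ((1 : R) ⊗ₜ[R] m) = 0 := by
    apply (TensorProduct.prodLeft R R R' (Localization.Away f) M).injective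
    rw [map_zero, LinearMap.rTensor_tmul]
    simp only [p, LinearMap.prod_apply, Function.prod_apply, Algebra.linearMap_apply, map_one,
      TensorProduct.prodLeft_tmul]
    refine Prod.ext hm ?_
    have hu : IsUnit (algebraMap R (Localization.Away f) (f ^ n)) :=
      IsLocalization.map_units (M := Submonoid.powers f) _ ⟨f ^ n, n, rfl⟩
    apply hu.smul_left_cancel.1
    rw [algebraMap_smul, ← TensorProduct.tmul_smul, hn]
    simp
  have h3 : (1 : R) ⊗ₜ[R] m = 0 :=
    Module.Flat.rTensor_preserves_injective_linearMap p hp (h2.trans (map_zero _).symm)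
  simpa using congrArg (TensorProduct.lid R M) h3

attribute [local instance] Algebra.TensorProduct.rightAlgebra in
/-- A glueable algebra `A` gives a glueing pair `(A → R' ⊗ A, f)`. -/
theorem glueingPair_tensor (h : EtGlue.IsGlueingPair R R' f) (A : Type u) [CommRing A] [Algebra R A]
    (hA : EtGlue.IsGlueable R R' f A) : EtGlue.IsGlueingPair A (R' ⊗[R] A) (algebraMap R A f) := by
  have : IsScalarTower R A (R' ⊗[R] A) := IsScalarTower.of_algebraMap_eq fun r =>
    (Algebra.TensorProduct.includeRight.commutes r).symm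
  exact GlueAlgLib.glueingPair_baseChange h A _ AlgEquiv.refl (fun _ => rfl) hA

/-- The corner map `R_f → R'_f`. -/
abbrev cornerMap (R R' : Type u) [CommRing R] [CommRing R'] [Algebra R R'] (f : R) :
    Localization.Away f →+* Localization.Away (algebraMap R R' f) :=
  Localization.awayMap (algebraMap R R') f

theorem cornerMap_comp :
    (cornerMap R R' f).comp (algebraMap R (Localization.Away f)) =
      (algebraMap R' (Localization.Away (algebraMap R R' f))).comp (algebraMap R R') := by
  refine RingHom.ext fun r => ?_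
  simp only [RingHom.comp_apply, cornerMap, Localization.awayMap, IsLocalization.Away.map, IsLocalization.map_eq]

theorem ringHom_ext (h : EtGlue.IsGlueingPair R R' f) {C : Type u} [CommRing C] {g g' : C →+* R}
    (h' : (algebraMap R R').comp g = (algebraMap R R').comp g')
    (h₁ : (algebraMap R (Localization.Away f)).comp g = (algebraMap R (Localization.Away f)).comp g') : g = g' :=
  RingHom.ext fun c => h.2.1 (Prod.ext (RingHom.congr_fun h' c) (RingHom.congr_fun h₁ c))

theorem exists_ringHom (h : EtGlue.IsGlueingPair R R' f) {C : Type u} [CommRing C] (u' : C →+* R')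
    (u₁ : C →+* Localization.Away f)
    (w : (algebraMap R' (Localization.Away (algebraMap R R' f))).comp u' = (cornerMap R R' f).comp u₁) :
    ∃ g : C →+* R, (algebraMap R R').comp g = u' ∧ (algebraMap R (Localization.Away f)).comp g = u₁ := by
  choose g hg' hg₁ using fun c => h.2.2.1 (u' c) (u₁ c) (RingHom.congr_fun w c)
  have inj : ∀ {r s : R}, algebraMap R R' r = algebraMap R R' s →
      algebraMap R (Localization.Away f) r = algebraMap R (Localization.Away f) s → r = s :=
    fun e₁ e₂ => h.2.1 (Prod.ext e₁ e₂)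
  refine ⟨{ toFun := g
            map_one' := inj (by rw [hg', map_one, map_one]) (by rw [hg₁, map_one, map_one])
            map_mul' := fun a b => inj (by rw [hg', map_mul, map_mul, hg', hg'])
              (by rw [hg₁, map_mul, map_mul, hg₁, hg₁])
            map_zero' := inj (by rw [hg', map_zero, map_zero]) (by rw [hg₁, map_zero, map_zero])
            map_add' := fun a b => inj (by rw [hg', map_add, map_add, hg', hg'])
              (by rw [hg₁, map_add, map_add, hg₁, hg₁]) },
    RingHom.ext hg', RingHom.ext hg₁⟩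

/-- Every prime lies in one of the two corners. -/
theorem exists_corner (h : EtGlue.IsGlueingPair R R' f) (p : PrimeSpectrum R) :
    p ∈ Set.range (PrimeSpectrum.comap (algebraMap R (Localization.Away f))) ∨
      p ∈ Set.range (PrimeSpectrum.comap (algebraMap R R')) := by
  by_cases hf : f ∈ p.asIdeal
  · refine Or.inr ?_
    let e : (R ⧸ Ideal.span {f}) ≃+* R' ⧸ (Ideal.span {f ^ 1}).map (algebraMap R R') :=
      (Ideal.quotEquivOfEq (by rw [pow_one])).trans (RingEquiv.ofBijective _ (h.1 1 one_pos))
    have hp : p ∈ Set.range (PrimeSpectrum.comap (Ideal.Quotient.mk (Ideal.span {f}))) := by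
      rw [range_comap_of_surjective _ _ Ideal.Quotient.mk_surjective, Ideal.mk_ker,
        PrimeSpectrum.mem_zeroLocus, SetLike.coe_subset_coe, Ideal.span_singleton_le_iff_mem]
      exact hf
    obtain ⟨q, rfl⟩ := hp
    refine ⟨PrimeSpectrum.comap (Ideal.Quotient.mk _) (PrimeSpectrum.comap e.symm.toRingHom q), ?_⟩
    have he : (Ideal.Quotient.mk ((Ideal.span {f ^ 1}).map (algebraMap R R'))).comp (algebraMap R R') =
        e.toRingHom.comp (Ideal.Quotient.mk (Ideal.span {f})) := RingHom.ext fun r => rfl
    ext r
    simp only [PrimeSpectrum.comap_asIdeal, Ideal.mem_comap]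
    have h1 := RingHom.congr_fun he r
    simp only [RingHom.comp_apply] at h1
    rw [h1]
    simp
  · refine Or.inl ?_
    rw [PrimeSpectrum.localization_away_comap_range (Localization.Away f) f]
    exact hf

theorem spec_ext (h : EtGlue.IsGlueingPair R R' f) {W : Scheme.{u}} [IsAffine W]
    {g g' : Spec (CommRingCat.of R) ⟶ W}
    (h' : Spec.map (CommRingCat.ofHom (algebraMap R R')) ≫ g = Spec.map (CommRingCat.ofHom (algebraMap R R')) ≫ g')
    (h₁ : Spec.map (CommRingCat.ofHom (algebraMap R (Localization.Away f))) ≫ g =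
      Spec.map (CommRingCat.ofHom (algebraMap R (Localization.Away f))) ≫ g') : g = g' := by
  rw [← cancel_mono W.isoSpec.hom]
  obtain ⟨φ, hφ⟩ := Spec.map_surjective (g ≫ W.isoSpec.hom)
  obtain ⟨φ', hφ'⟩ := Spec.map_surjective (g' ≫ W.isoSpec.hom)
  rw [← hφ, ← hφ']
  have k : ∀ {B : Type u} [CommRing B] (j : R →+* B),
      Spec.map (CommRingCat.ofHom j) ≫ g = Spec.map (CommRingCat.ofHom j) ≫ g' →
      j.comp φ.hom = j.comp φ'.hom := fun j hj => by
    have h2 := congrArg (· ≫ W.isoSpec.hom) hj
    simp only [Category.assoc, ← hφ, ← hφ', ← Spec.map_comp] at h2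
    exact congrArg CommRingCat.Hom.hom (Spec.map_injective h2)
  exact congrArg Spec.map (CommRingCat.hom_ext (ringHom_ext h (k _ h') (k _ h₁)))

theorem exists_spec_hom (h : EtGlue.IsGlueingPair R R' f) {W : Scheme.{u}} [IsAffine W]
    (u' : Spec (CommRingCat.of R') ⟶ W) (u₁ : Spec (CommRingCat.of (Localization.Away f)) ⟶ W)
    (w : Spec.map (CommRingCat.ofHom (algebraMap R' (Localization.Away (algebraMap R R' f)))) ≫ u' =
      Spec.map (CommRingCat.ofHom (cornerMap R R' f)) ≫ u₁) :
    ∃ g : Spec (CommRingCat.of R) ⟶ W,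
      Spec.map (CommRingCat.ofHom (algebraMap R R')) ≫ g = u' ∧
        Spec.map (CommRingCat.ofHom (algebraMap R (Localization.Away f))) ≫ g = u₁ := by
  obtain ⟨φ', hφ'⟩ := Spec.map_surjective (u' ≫ W.isoSpec.hom)
  obtain ⟨φ₁, hφ₁⟩ := Spec.map_surjective (u₁ ≫ W.isoSpec.hom)
  have w' := congrArg (· ≫ W.isoSpec.hom) w
  simp only [Category.assoc, ← hφ', ← hφ₁, ← Spec.map_comp] at w'
  obtain ⟨g, hg', hg₁⟩ := exists_ringHom h φ'.hom φ₁.hom (congrArg CommRingCat.Hom.hom (Spec.map_injective w'))
  refine ⟨Spec.map (CommRingCat.ofHom g) ≫ W.isoSpec.inv, ?_, ?_⟩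
  · rw [← Category.assoc, Iso.comp_inv_eq, ← hφ', ← Spec.map_comp]
    exact congrArg Spec.map (CommRingCat.hom_ext hg')
  · rw [← Category.assoc, Iso.comp_inv_eq, ← hφ₁, ← Spec.map_comp]
    exact congrArg Spec.map (CommRingCat.hom_ext hg₁)

end Groth.Agent.GluePairHom

namespace Groth.Agent.GluePairHom

variable {R R' : Type u} [CommRing R] [CommRing R'] [Algebra R R'] {f : R}

/-- Glueing of morphisms, for any model of the overlap corner. -/
theorem exists_spec_hom' (h : EtGlue.IsGlueingPair R R' f) {L : Type u} [CommRing L] [Algebra R' L]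
    [IsLocalization.Away (algebraMap R R' f) L] (k : Localization.Away f →+* L)
    (hk : k.comp (algebraMap R (Localization.Away f)) = (algebraMap R' L).comp (algebraMap R R'))
    {W : Scheme.{u}} [IsAffine W] (u' : Spec (CommRingCat.of R') ⟶ W)
    (u₁ : Spec (CommRingCat.of (Localization.Away f)) ⟶ W)
    (w : Spec.map (CommRingCat.ofHom (algebraMap R' L)) ≫ u' = Spec.map (CommRingCat.ofHom k) ≫ u₁) :
    ∃ g : Spec (CommRingCat.of R) ⟶ W,
      Spec.map (CommRingCat.ofHom (algebraMap R R')) ≫ g = u' ∧
        Spec.map (CommRingCat.ofHom (algebraMap R (Localization.Away f))) ≫ g = u₁ := by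
  let e : L ≃ₐ[R'] Localization.Away (algebraMap R R' f) :=
    IsLocalization.algEquiv (Submonoid.powers (algebraMap R R' f)) _ _
  have he : (e : L →+* _).comp (algebraMap R' L) = algebraMap R' (Localization.Away (algebraMap R R' f)) :=
    RingHom.ext fun x => e.commutes x
  have hk' : (e : L →+* _).comp k = cornerMap R R' f := IsLocalization.ringHom_ext (Submonoid.powers f) (by
    rw [RingHom.comp_assoc, hk, ← RingHom.comp_assoc, he, cornerMap_comp])
  refine exists_spec_hom h u' u₁ ?_
  rw [← he, ← hk', CommRingCat.ofHom_comp, CommRingCat.ofHom_comp, Spec.map_comp, Spec.map_comp, Category.assoc,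
    Category.assoc, w]

end Groth.Agent.GluePairHom
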